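import Groth.Agent.LocImm.K947.Spread

/-!
# Neighbourhoods of localizing immersions
-/

set_option autoImplicit false
universe u

open CategoryTheory AlgebraicGeometry LocImm TopologicalSpace Limits

namespace K947.Nhd

open K947.LocHom K947.Localizing K947.Immersion K947.Chart K947.Cancel K947.Spread

variable {X Y Z : Scheme.{u}}

/-- The set of maximal points (no proper generization) of a Noetherian scheme is finite. -/
theorem finite_maximalPoints (X : Scheme.{u}) [NoetherianSpace X] :
    {x : X | ∀ x' : X, x' ⤳ x → x' = x}.Finite := by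
  have h1 : Set.MapsTo (fun x : X => closure {x}) {x : X | ∀ x' : X, x' ⤳ x → x' = x}
      (irreducibleComponents X) := by
    intro x hx
    have h2 : closure {x} = irreducibleComponent x := by
      obtain ⟨η, hη⟩ := QuasiSober.sober (isIrreducible_irreducibleComponent (x := x))
        isClosed_irreducibleComponent
      have hη' : closure {η} = irreducibleComponent x := hη
      have h3 : η ⤳ x := specializes_iff_mem_closure.2 (by rw [hη']; exact mem_irreducibleComponent)
      rw [hx η h3] at hη'
      exact hη'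
    change closure {x} ∈ irreducibleComponents X
    rw [h2]
    exact irreducibleComponent_mem_irreducibleComponents x
  refine Set.Finite.of_finite_image (f := fun x : X => closure {x})
    (NoetherianSpace.finite_irreducibleComponents.subset h1.image_subset) ?_
  intro x _ y _ hxy
  exact (show IsGenericPoint x (closure {y}) from hxy).eq rfl

theorem isIso_stalkMap_of_comp {f : X ⟶ Y} {g : Y ⟶ Z} (hf : IsLocalizing f)
    (hfg : IsLocalizing (f ≫ g)) (x : X) : IsIso (g.stalkMap (f x)) := by
  have h2 := IsLocalizing.isIso_stalkMap hf x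
  have h1 : IsIso (g.stalkMap (f x) ≫ f.stalkMap x) := by
    rw [← Scheme.Hom.stalkMap_comp]
    exact IsLocalizing.isIso_stalkMap hfg x
  exact IsIso.of_isIso_comp_right (g.stalkMap (f x)) (f.stalkMap x)

/-- Let `f : X ⟶ Y` and `f ≫ g` be localizing immersions with `g : Y ⟶ Z` separated and locally
essentially of finite type, `Z` locally Noetherian. Then `g` is a localizing immersion on an open
neighbourhood of the image of `f`. -/
theorem exists_isLocImmersion_nhd [NoetherianSpace Y] [IsLocallyNoetherian Z] (f : X ⟶ Y)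
    (g : Y ⟶ Z) (hf : IsLocImmersion f) (hfg : IsLocImmersion (f ≫ g)) [IsSeparated g]
    [EssFT.LocallyEssFiniteType g] :
    ∃ U : Y.Opens, Set.range f ⊆ (U : Set Y) ∧ IsLocImmersion (U.ι ≫ g) := by
  have h1 : ∀ x : X, ∃ V : Y.Opens, f x ∈ V ∧ IsLocImmersion (V.ι ≫ g) := by
    intro x
    have := isIso_stalkMap_of_comp hf.1 hfg.1 x
    exact exists_isLocImmersion_of_isIso_stalkMap g (f x)
  choose V hxV hV using h1
  let bad : Set Y := {y : Y | ∀ y' : Y, y' ⤳ y → y' = y} \ Set.range f
  have hbad : bad.Finite := (finite_maximalPoints Y).subset Set.sdiff_subset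
  let U : Y.Opens := (⨆ x, V x) ⊓ ⟨(closure bad)ᶜ, isClosed_closure.isOpen_compl⟩
  refine ⟨U, ?_, ?_⟩
  · rintro _ ⟨x, rfl⟩
    refine ⟨Opens.mem_iSup.2 ⟨x, hxV x⟩, ?_⟩
    intro hx
    have h2 : closure bad = ⋃ y ∈ bad, closure {y} := by
      conv_lhs => rw [← Set.biUnion_of_singleton bad]
      exact hbad.closure_biUnion _
    have hx : f x ∈ closure bad := hx
    rw [h2] at hx
    simp only [Set.mem_iUnion] at hx
    obtain ⟨y, hy, hxy⟩ := hx
    exact hy.2 (stableUnderGeneralization_range hf.1 (specializes_iff_mem_closure.2 hxy) ⟨x, rfl⟩)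
  · have hloc : IsLocalizing (U.ι ≫ g) := by
      apply isLocalizing_of_forall_exists
      intro y
      obtain ⟨x, hx⟩ := Opens.mem_iSup.1 y.2.1
      let W : (U : Scheme.{u}).Opens := U.ι ⁻¹ᵁ V x
      refine ⟨W, hx, ?_⟩
      have h3 : W.ι ≫ U.ι ≫ g = IsOpenImmersion.lift (V x).ι (W.ι ≫ U.ι) (by
          rw [Scheme.Opens.range_ι]
          rintro _ ⟨z, rfl⟩
          exact z.2) ≫ (V x).ι ≫ g := by
        rw [IsOpenImmersion.lift_fac_assoc, Category.assoc]
      rw [h3]
      have : IsOpenImmersion (IsOpenImmersion.lift (V x).ι (W.ι ≫ U.ι) (by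
          rw [Scheme.Opens.range_ι]
          rintro _ ⟨z, rfl⟩
          exact z.2)) := by
        have h4 : IsOpenImmersion (IsOpenImmersion.lift (V x).ι (W.ι ≫ U.ι) (by
          rw [Scheme.Opens.range_ι]
          rintro _ ⟨z, rfl⟩
          exact z.2) ≫ (V x).ι) := by
          rw [IsOpenImmersion.lift_fac]
          infer_instance
        exact IsOpenImmersion.of_comp _ (V x).ι
      exact IsLocalizing.comp (isLocalizing_of_isOpenImmersion _) (hV x).1
    refine ⟨hloc, ?_⟩
    have hUopen : Topology.IsOpenEmbedding U.ι := U.ι.isOpenEmbedding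
    apply injective_of_isSeparated hloc
    intro y₁ hy₁ y₂ hy₂ h
    have hmax : ∀ y : U, (∀ y' : U, y' ⤳ y → y' = y) → ∃ x : X, f x = U.ι y := by
      intro y hy
      by_contra hcon
      have h5 : U.ι y ∈ bad := by
        refine ⟨?_, fun h => hcon (by obtain ⟨x, hx⟩ := h; exact ⟨x, hx⟩)⟩
        intro y' hy'
        have h6 : y' ∈ U := hy'.mem_open U.isOpen y.2
        have h7 : (⟨y', h6⟩ : U) ⤳ y := Topology.IsInducing.subtypeVal.specializes_iff.1 hy'
        exact congrArg Subtype.val (hy _ h7)
      exact y.2.2 (subset_closure h5)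
    obtain ⟨x₁, hx₁⟩ := hmax y₁ hy₁
    obtain ⟨x₂, hx₂⟩ := hmax y₂ hy₂
    have h8 : g (U.ι y₁) = g (U.ι y₂) := by
      simpa using h
    rw [← hx₁, ← hx₂] at h8
    have h9 : x₁ = x₂ := hfg.2 (by simpa using h8)
    apply hUopen.injective
    rw [← hx₁, ← hx₂, h9]

end K947.Nhd
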