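import Groth.Agent.LocImm.K947.Localizing
import Mathlib.AlgebraicGeometry.Noetherian
import Mathlib.AlgebraicGeometry.Stalk
import Mathlib.AlgebraicGeometry.Morphisms.UniversallyInjective
import Mathlib.Topology.NoetherianSpace
import Mathlib.Topology.Inseparable

/-!
# Localizing immersions: topology, monomorphisms, charts
-/

set_option autoImplicit false
universe u

open CategoryTheory AlgebraicGeometry LocImm TopologicalSpace

namespace K947.Immersion

open K947.LocHom K947.Localizing

variable {X Y Z : Scheme.{u}}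

theorem surjectiveOnStalks {f : X ⟶ Y} (hf : IsLocalizing f) : SurjectiveOnStalks f where
  stalkMap_surjective x := by
    have := IsLocalizing.isIso_stalkMap hf x
    exact (ConcreteCategory.bijective_of_isIso (f.stalkMap x)).2

/-- Generizations lift along a localizing morphism. -/
theorem exists_specializes {f : X ⟶ Y} (hf : IsLocalizing f) {x : X} {y : Y} (h : y ⤳ f x) :
    ∃ x' : X, x' ⤳ x ∧ f x' = y := by
  have h1 : y ∈ Set.range (Y.fromSpecStalk (f x)) := by rw [Scheme.range_fromSpecStalk]; exact h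
  obtain ⟨t, rfl⟩ := h1
  have := IsLocalizing.isIso_stalkMap hf x
  have hsurj : Function.Surjective (Spec.map (f.stalkMap x)) :=
    (Spec.map (f.stalkMap x)).homeomorph.surjective
  obtain ⟨t', rfl⟩ := hsurj t
  refine ⟨X.fromSpecStalk x t', ?_, ?_⟩
  · have : X.fromSpecStalk x t' ∈ Set.range (X.fromSpecStalk x) := ⟨t', rfl⟩
    rw [Scheme.range_fromSpecStalk] at this
    exact this
  · rw [← Scheme.Hom.comp_apply, ← Scheme.SpecMap_stalkMap_fromSpecStalk, Scheme.Hom.comp_apply]

/-- Generizations lift uniquely along a localizing morphism. -/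
theorem specializes_unique {f : X ⟶ Y} (hf : IsLocalizing f) {x x₁ x₂ : X} (h₁ : x₁ ⤳ x)
    (h₂ : x₂ ⤳ x) (h : f x₁ = f x₂) : x₁ = x₂ := by
  have h₁ : x₁ ∈ Set.range (X.fromSpecStalk x) := by rw [Scheme.range_fromSpecStalk]; exact h₁
  have h₂ : x₂ ∈ Set.range (X.fromSpecStalk x) := by rw [Scheme.range_fromSpecStalk]; exact h₂
  obtain ⟨t₁, rfl⟩ := h₁
  obtain ⟨t₂, rfl⟩ := h₂
  have := IsLocalizing.isIso_stalkMap hf x
  rw [← Scheme.Hom.comp_apply, ← Scheme.Hom.comp_apply, ← Scheme.SpecMap_stalkMap_fromSpecStalk,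
    Scheme.Hom.comp_apply, Scheme.Hom.comp_apply] at h
  have h3 := (Y.fromSpecStalk (f x)).isEmbedding.injective h
  have h4 := (Spec.map (f.stalkMap x)).homeomorph.injective h3
  rw [h4]

theorem stableUnderGeneralization_range {f : X ⟶ Y} (hf : IsLocalizing f) :
    StableUnderGeneralization (Set.range f) := by
  rintro _ y h ⟨x, rfl⟩
  obtain ⟨x', -, rfl⟩ := exists_specializes hf h
  exact ⟨x', rfl⟩

/-- In a localizing immersion with Noetherian source, specializations are reflected. -/
theorem specializes_of_map {f : X ⟶ Y} (hf : IsLocImmersion f) {x y : X} (h : f x ⤳ f y) : x ⤳ y := by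
  obtain ⟨x', hx', h'⟩ := exists_specializes hf.1 h
  rwa [hf.2 h'] at hx'

theorem mem_of_mem_closure_image [NoetherianSpace X] {f : X ⟶ Y} (hf : IsLocImmersion f)
    {C : Set X} (hC : IsClosed C) {x : X} (hx : f x ∈ closure (f '' C)) : x ∈ C := by
  obtain ⟨S, hS, hcl, hirr, hCS⟩ := NoetherianSpace.exists_finite_set_isClosed_irreducible hC
  have h1 : closure (f '' C) = ⋃ t ∈ S, closure (f '' t) := by
    rw [hCS, Set.sUnion_eq_biUnion, Set.image_iUnion₂]
    exact hS.closure_biUnion _
  rw [h1] at hx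
  simp only [Set.mem_iUnion] at hx
  obtain ⟨t, ht, hxt⟩ := hx
  obtain ⟨ξ, hξ⟩ := QuasiSober.sober (hirr t ht) (hcl t ht)
  have hξ' : closure {ξ} = t := hξ
  have h2 : closure (f '' t) ⊆ closure {f ξ} := by
    refine closure_minimal ?_ isClosed_closure
    rintro _ ⟨z, hz, rfl⟩
    rw [← hξ'] at hz
    have : f ξ ⤳ f z := (specializes_iff_mem_closure.2 hz).map f.continuous
    exact specializes_iff_mem_closure.1 this
  have h3 : f ξ ⤳ f x := specializes_iff_mem_closure.2 (h2 hxt)
  have h4 := specializes_of_map hf h3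
  rw [hCS]
  refine ⟨t, ht, ?_⟩
  rw [← hξ']
  exact specializes_iff_mem_closure.1 h4

theorem isEmbedding [NoetherianSpace X] {f : X ⟶ Y} (hf : IsLocImmersion f) :
    Topology.IsEmbedding f := by
  refine ⟨⟨le_antisymm f.continuous.le_induced ?_⟩, hf.2⟩
  intro U hU
  rw [isOpen_induced_iff]
  refine ⟨(closure (f '' Uᶜ))ᶜ, isClosed_closure.isOpen_compl, ?_⟩
  ext x
  simp only [Set.preimage_compl, Set.mem_compl_iff, Set.mem_preimage]
  constructor
  · intro h
    by_contra hx
    exact h (subset_closure ⟨x, hx, rfl⟩)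
  · intro hx h
    exact mem_of_mem_closure_image hf hU.isClosed_compl h hx

theorem isPreimmersion [NoetherianSpace X] {f : X ⟶ Y} (hf : IsLocImmersion f) :
    IsPreimmersion f :=
  have := surjectiveOnStalks hf.1
  { isEmbedding := isEmbedding hf }

theorem mono {f : X ⟶ Y} (hf : IsLocImmersion f) : Mono f := by
  have := surjectiveOnStalks hf.1
  exact SurjectiveOnStalks.mono_of_injective hf.2

theorem isLocImmersion_of_mono {f : X ⟶ Y} (hf : IsLocalizing f) [Mono f] : IsLocImmersion f :=
  ⟨hf, f.injective⟩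

theorem isLocImmersion_of_isOpenImmersion (f : X ⟶ Y) [IsOpenImmersion f] : IsLocImmersion f :=
  ⟨isLocalizing_of_isOpenImmersion f, f.isOpenEmbedding.injective⟩

theorem IsLocImmersion.comp {f : X ⟶ Y} {g : Y ⟶ Z} (hf : IsLocImmersion f)
    (hg : IsLocImmersion g) : IsLocImmersion (f ≫ g) := by
  refine ⟨IsLocalizing.comp hf.1 hg.1, ?_⟩
  intro x y h
  exact hf.2 (hg.2 (by simpa using h))

theorem isLocImmersion_pullback_snd {Y' : Scheme.{u}} {f : X ⟶ Y} (g : Y' ⟶ Y)
    (hf : IsLocImmersion f) : IsLocImmersion (Limits.pullback.snd f g) := by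
  have := mono hf
  exact isLocImmersion_of_mono (isLocalizing_pullback_snd g hf.1)

theorem isLocImmersion_pullback_fst {Y' : Scheme.{u}} {f : X ⟶ Y} (g : Y' ⟶ Y)
    (hf : IsLocImmersion f) : IsLocImmersion (Limits.pullback.fst g f) := by
  have := mono hf
  exact isLocImmersion_of_mono (isLocalizing_pullback_fst g hf.1)

end K947.Immersion
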