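import Groth.Agent.LocImm.K947.Factor
import Groth.Agent.S18205
import Mathlib.AlgebraicGeometry.Morphisms.QuasiFinite
import Mathlib.AlgebraicGeometry.ZariskisMainTheorem

/-!
# Consequences of the factorization theorem
-/

set_option autoImplicit false
universe u

open CategoryTheory AlgebraicGeometry LocImm TopologicalSpace Limits

namespace K947.Applications

open K947.LocHom K947.Localizing K947.Immersion K947.Chart K947.Cancel K947.Spread K947.Nhd
  K947.TwoModels K947.Sep K947.Glue K947.Factor

variable {X Y Z S : Scheme.{u}}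

instance : MorphismProperty.IsStableUnderComposition @EssFT.LocallyEssFiniteType.{u} :=
  HasRingHomProperty.stableUnderComposition
    (RingHom.locally_stableUnderComposition RingHom.EssFiniteType.respectsIso
      RingHom.EssFiniteType.isStableUnderBaseChange.localizationPreserves
      RingHom.EssFiniteType.stableUnderComposition)

theorem locallyEssFiniteType_comp (f : X ⟶ Y) (g : Y ⟶ Z) [hf : EssFT.LocallyEssFiniteType f]
    [hg : EssFT.LocallyEssFiniteType g] : EssFT.LocallyEssFiniteType (f ≫ g) :=
  MorphismProperty.comp_mem @EssFT.LocallyEssFiniteType f g hf hg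

theorem locallyEssFiniteType_of_isLocalizing {f : X ⟶ Y} (hf : IsLocalizing f) :
    EssFT.LocallyEssFiniteType f := by
  constructor
  intro x
  obtain ⟨U, V, hx, e, h⟩ := hf x
  refine ⟨U, V, hx, e, ?_⟩
  algebraize [(f.appLE U V e).hom]
  obtain ⟨M, hM⟩ := h
  have hM : IsLocalization M Γ(X, V) := hM
  exact Algebra.EssFiniteType.of_isLocalization _ M

theorem isLocalizing_fromSpecStalk (X : Scheme.{u}) (x : X) : IsLocImmersion (X.fromSpecStalk x) := by
  obtain ⟨_, ⟨U, hU, rfl⟩, hxU, -⟩ := X.isBasis_affineOpens.exists_subset_of_mem_open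
    (show x ∈ (⊤ : X.Opens) from trivial) isOpen_univ
  have hU : IsAffineOpen U := hU
  have hxU : x ∈ U := hxU
  rw [← hU.fromSpecStalk_eq_fromSpecStalk hxU]
  have h1 : IsLocHom (X.presheaf.germ U x hxU).hom := by
    let := X.presheaf.algebra_section_stalk ⟨x, hxU⟩
    have := hU.isLocalization_stalk ⟨x, hxU⟩
    exact isLocHom_algebraMap (hU.primeIdealOf ⟨x, hxU⟩).asIdeal.primeCompl
  exact IsLocImmersion.comp (isLocImmersion_SpecMap _ h1) (isLocImmersion_of_isOpenImmersion _)

/-- Every separated essentially finite type morphism is quasi-finite over the points where a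
factorization is. -/
theorem quasiFiniteAt_of_comp {k : X ⟶ Z} {p : Z ⟶ Y} (hk : IsLocalizing k) (x : X)
    (h : (k ≫ p).QuasiFiniteAt x) : p.QuasiFiniteAt (k x) := by
  have := IsLocalizing.isIso_stalkMap hk x
  have h' : (p.stalkMap (k x) ≫ k.stalkMap x).hom.QuasiFinite := by
    rw [← Scheme.Hom.stalkMap_comp]
    exact h
  exact (RingHom.QuasiFinite.respectsIso.cancel_right_isIso (p.stalkMap (k x)) (k.stalkMap x)).1 h'

/-- Local schemes of `X` and of the target of a localizing immersion agree. -/
theorem fromSpecStalk_comp (k : X ⟶ Z) (p : Z ⟶ Y) (x : X) :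
    X.fromSpecStalk x ≫ k ≫ p = Spec.map (k.stalkMap x) ≫ Z.fromSpecStalk (k x) ≫ p := by
  rw [Scheme.SpecMap_stalkMap_fromSpecStalk_assoc]

section Localizable

variable (P : MorphismProperty Scheme.{u})
    (hα : ∀ {W X Y : Scheme.{u}} [IsNoetherian W] [IsNoetherian X] [IsNoetherian Y] (i : W ⟶ X) (f : X ⟶ Y) [IsSeparated f] [EssFT.EssFiniteType f], LocImm.IsLocImmersion i → P f → P (i ≫ f))

include hα in
theorem localizable_iff [IsNoetherian X] [IsNoetherian Z] [IsNoetherian Y] {k : X ⟶ Z} (p : Z ⟶ Y)
    (hk : IsLocImmersion k) [IsSeparated p] [EssFT.EssFiniteType p] (x : X) :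
    P (X.fromSpecStalk x ≫ k ≫ p) ↔ P (Z.fromSpecStalk (k x) ≫ p) := by
  have hiso := IsLocalizing.isIso_stalkMap hk.1 x
  have i1 : EssFT.LocallyEssFiniteType (X.fromSpecStalk x) :=
    locallyEssFiniteType_of_isLocalizing (isLocalizing_fromSpecStalk X x).1
  have i2 : EssFT.LocallyEssFiniteType (Z.fromSpecStalk (k x)) :=
    locallyEssFiniteType_of_isLocalizing (isLocalizing_fromSpecStalk Z (k x)).1
  have i3 : EssFT.LocallyEssFiniteType k := locallyEssFiniteType_of_isLocalizing hk.1
  have := mono hk
  have j1 : EssFT.EssFiniteType (X.fromSpecStalk x ≫ k ≫ p) :=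
    { toLocallyEssFiniteType := by
        have := locallyEssFiniteType_comp k p
        exact locallyEssFiniteType_comp _ _
      toQuasiCompact := inferInstance }
  have j2 : EssFT.EssFiniteType (Z.fromSpecStalk (k x) ≫ p) :=
    { toLocallyEssFiniteType := locallyEssFiniteType_comp _ _
      toQuasiCompact := inferInstance }
  constructor
  · intro h
    have h1 := hα (inv (Spec.map (k.stalkMap x))) (X.fromSpecStalk x ≫ k ≫ p)
      (isLocImmersion_of_isOpenImmersion _) h
    rwa [fromSpecStalk_comp, IsIso.inv_hom_id_assoc] at h1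
  · intro h
    rw [fromSpecStalk_comp]
    exact hα _ _ (isLocImmersion_of_isOpenImmersion _) h

end Localizable

end K947.Applications
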