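import Groth.Agent.LocImm.K947.Chart
import Mathlib.AlgebraicGeometry.Morphisms.Separated
import Mathlib.AlgebraicGeometry.Morphisms.SurjectiveOnStalks
import Mathlib.AlgebraicGeometry.ZariskisMainTheorem

/-!
# Cancellation and separatedness for localizing immersions
-/

set_option autoImplicit false
universe u

open CategoryTheory AlgebraicGeometry LocImm TopologicalSpace Limits

namespace K947.Cancel

open K947.LocHom K947.Localizing K947.Immersion K947.Chart

variable {X Y Z : Scheme.{u}}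

/-- If `f ≫ g` is a localizing immersion and `f` is schematically dense then `f` is a localizing
immersion. -/
theorem isLocImmersion_of_comp_of_app_injective [NoetherianSpace X] (f : X ⟶ Y) (g : Y ⟶ Z)
    (hfg : IsLocImmersion (f ≫ g)) (hd : ∀ U : Y.Opens, Function.Injective (f.app U).hom) :
    IsLocImmersion f := by
  refine ⟨fun x => ?_, fun a b h => hfg.2 (congrArg g h)⟩
  obtain ⟨_, ⟨V₀, hV₀, rfl⟩, hxV₀, -⟩ := Z.isBasis_affineOpens.exists_subset_of_mem_open
    (show g (f x) ∈ (⊤ : Z.Opens) from trivial) isOpen_univ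
  have hV₀ : IsAffineOpen V₀ := hV₀
  obtain ⟨_, ⟨U, hU, rfl⟩, hxU, hUV⟩ := Y.isBasis_affineOpens.exists_subset_of_mem_open
    (show f x ∈ (g ⁻¹ᵁ V₀ : Y.Opens) from hxV₀) (g ⁻¹ᵁ V₀).isOpen
  have hU : IsAffineOpen U := hU
  have hUV : U ≤ g ⁻¹ᵁ V₀ := hUV
  obtain ⟨G, hG, hGU⟩ := (isEmbedding hfg).isInducing.isOpen_iff.1 (f ⁻¹ᵁ U).isOpen
  obtain ⟨a, haW, hxa, haff, hloc⟩ := exists_basicOpen_chart hfg x hV₀ hxV₀ (W := ⟨G, hG⟩)
    (show (f ≫ g) x ∈ G by
      change x ∈ (f ≫ g) ⁻¹' G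
      rw [hGU]
      exact hxU)
  have hle : (f ≫ g) ⁻¹ᵁ Z.basicOpen a ≤ f ⁻¹ᵁ U := by
    intro z hz
    have : (f ≫ g) z ∈ G := haW hz
    change z ∈ (f ⁻¹ᵁ U : Set X)
    rw [← hGU]
    exact this
  -- the affine open of `Y`
  let U' : Y.Opens := Y.basicOpen (g.appLE V₀ U hUV a)
  have hU' : U' = U ⊓ g ⁻¹ᵁ Z.basicOpen a := Scheme.basicOpen_appLE _ _ _ _ _
  have hfU' : f ⁻¹ᵁ U' = (f ≫ g) ⁻¹ᵁ Z.basicOpen a := by
    rw [hU', Scheme.Hom.preimage_inf, Scheme.Hom.comp_preimage]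
    exact inf_eq_right.2 hle
  have hU'aff : IsAffineOpen U' := hU.basicOpen _
  refine ⟨⟨U', hU'aff⟩, ⟨f ⁻¹ᵁ U', by rw [hfU']; exact haff⟩, ?_, le_rfl, ?_⟩
  · change x ∈ f ⁻¹ᵁ U'
    rw [hfU']; exact hxa
  · have h1 : U' ≤ g ⁻¹ᵁ Z.basicOpen a := by rw [hU']; exact inf_le_right
    have h2 : g.appLE (Z.basicOpen a) U' h1 ≫ f.appLE U' (f ⁻¹ᵁ U') le_rfl =
        (f ≫ g).appLE (Z.basicOpen a) (f ⁻¹ᵁ U') (by rw [hfU']) :=
      Scheme.Hom.appLE_comp_appLE _ _ _ _ _ _ _
    have h3 : IsLocHom ((f ≫ g).appLE (Z.basicOpen a) (f ⁻¹ᵁ U') (by rw [hfU'])).hom := by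
      have h4 : ∀ (W : X.Opens) (hW : W = (f ≫ g) ⁻¹ᵁ Z.basicOpen a),
          IsLocHom ((f ≫ g).appLE (Z.basicOpen a) W (by rw [hW])).hom := by
        rintro W rfl
        rw [Scheme.Hom.appLE_eq_app]
        exact hloc
      exact h4 _ hfU'
    rw [← h2, CommRingCat.hom_comp] at h3
    refine IsLocHom.of_comp_of_injective h3 ?_
    rw [Scheme.Hom.appLE_eq_app]
    exact hd U'

/-- If `f ≫ g` is a localizing immersion and `f` is proper then `f` is a closed immersion. -/
theorem isClosedImmersion_of_comp (f : X ⟶ Y) (g : Y ⟶ Z) (hfg : IsLocImmersion (f ≫ g))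
    [IsProper f] : IsClosedImmersion f := by
  have := mono hfg
  have : Mono f := mono_of_mono f g
  exact (IsClosedImmersion.iff_isProper_and_mono f).2 ⟨inferInstance, inferInstance⟩

/-- A localizing morphism has a section over the local scheme at each point of the image. -/
theorem exists_section {f : X ⟶ Y} (hf : IsLocalizing f) (x : X) (y : Y) (h : f x = y) :
    ∃ s : Spec (Y.presheaf.stalk y) ⟶ X, s ≫ f = Y.fromSpecStalk y ∧
      Set.range s = {x' | x' ⤳ x} ∧ s (IsLocalRing.closedPoint _) = x := by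
  subst h
  have := IsLocalizing.isIso_stalkMap hf x
  refine ⟨inv (Spec.map (f.stalkMap x)) ≫ X.fromSpecStalk x, ?_, ?_, ?_⟩
  · rw [Category.assoc, ← Scheme.SpecMap_stalkMap_fromSpecStalk, IsIso.inv_hom_id_assoc]
  · rw [← Scheme.range_fromSpecStalk]
    ext z
    constructor
    · rintro ⟨t, rfl⟩
      exact ⟨inv (Spec.map (f.stalkMap x)) t, (Scheme.Hom.comp_apply _ _ _).symm⟩
    · rintro ⟨t, rfl⟩
      obtain ⟨t', rfl⟩ := (inv (Spec.map (f.stalkMap x))).homeomorph.surjective t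
      exact ⟨t', Scheme.Hom.comp_apply _ _ _⟩
  · have h1 : Spec.map (f.stalkMap x) (IsLocalRing.closedPoint _) = IsLocalRing.closedPoint _ :=
      IsLocalRing.comap_closedPoint _
    rw [← h1, ← Scheme.Hom.comp_apply, IsIso.hom_inv_id_assoc, Scheme.fromSpecStalk_closedPoint]

/-- Criterion for injectivity of localizing morphisms. -/
theorem injective_of_isSeparated {f : X ⟶ Y} (hf : IsLocalizing f) [IsSeparated f]
    (hinj : Set.InjOn (fun x => f x) {x : X | ∀ x' : X, x' ⤳ x → x' = x}) :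
    Function.Injective f := by
  intro x₁ x₂ h
  -- a maximal generization of `x₁`
  obtain ⟨η, hη, hηmax⟩ : ∃ η : X, η ⤳ x₁ ∧ ∀ x' : X, x' ⤳ η → x' = η := by
    obtain ⟨η, hη⟩ := QuasiSober.sober (isIrreducible_irreducibleComponent (x := x₁))
      isClosed_irreducibleComponent
    have hη' : closure {η} = irreducibleComponent x₁ := hη
    refine ⟨η, specializes_iff_mem_closure.2 (by rw [hη']; exact mem_irreducibleComponent), ?_⟩
    intro x' hx'
    have h1 : closure {x'} = irreducibleComponent x₁ := by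
      apply eq_irreducibleComponent isIrreducible_singleton.closure.isPreirreducible
      rw [← hη']
      exact closure_minimal (Set.singleton_subset_iff.2 (specializes_iff_mem_closure.1 hx'))
        isClosed_closure
    have h2 : IsGenericPoint x' (irreducibleComponent x₁) := h1
    exact h2.eq hη
  have h1 : f η ⤳ f x₂ := by
    have := hη.map f.continuous
    rwa [h] at this
  obtain ⟨η₂, hη₂, hη₂'⟩ := exists_specializes hf h1
  have hmax₂ : ∀ x' : X, x' ⤳ η₂ → x' = η₂ := by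
    intro ξ hξ
    have h2 : f ξ ⤳ f η := by
      have := hξ.map f.continuous
      rwa [hη₂'] at this
    obtain ⟨ξ', hξ', hfξ⟩ := exists_specializes hf h2
    have h3 := hηmax ξ' hξ'
    subst h3
    exact specializes_unique hf hξ (specializes_refl _) (by rw [← hfξ, hη₂'])
  have hηη : η = η₂ := hinj hηmax hmax₂ hη₂'.symm
  subst hηη
  obtain ⟨s₁, hs₁, hr₁, hc₁⟩ := exists_section hf x₁ (f x₁) rfl
  obtain ⟨s₂, hs₂, hr₂, hc₂⟩ := exists_section hf x₂ (f x₁) h.symm
  let L := pullback.lift s₁ s₂ (hs₁.trans hs₂.symm)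
  have hcl : IsClosed (L ⁻¹' (Set.range (pullback.diagonal f))) :=
    (pullback.diagonal f).isClosedEmbedding.isClosed_range.preimage L.continuous
  have := surjectiveOnStalks hf
  have hemb := SurjectiveOnStalks.isEmbedding_pullback f f
  have hkey : ∀ t, s₁ t = s₂ t → t ∈ L ⁻¹' (Set.range (pullback.diagonal f)) := by
    intro t ht
    refine ⟨s₁ t, hemb.injective ?_⟩
    simp only [L, ← Scheme.Hom.comp_apply, pullback.lift_fst, pullback.lift_snd]
    simp [ht]
  -- the point over `η`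
  obtain ⟨t, ht⟩ : f η ∈ Set.range (Y.fromSpecStalk (f x₁)) := by
    rw [Scheme.range_fromSpecStalk]
    exact hη.map f.continuous
  have h1t : s₁ t = η := by
    have h4 : s₁ t ∈ {x' | x' ⤳ x₁} := hr₁ ▸ ⟨t, rfl⟩
    refine specializes_unique hf h4 hη ?_
    rw [← Scheme.Hom.comp_apply, hs₁, ht]
  have h2t : s₂ t = η := by
    have h4 : s₂ t ∈ {x' | x' ⤳ x₂} := hr₂ ▸ ⟨t, rfl⟩
    refine specializes_unique hf h4 hη₂ ?_
    rw [← Scheme.Hom.comp_apply, hs₂, ht]
  have h5 := hkey t (h1t.trans h2t.symm)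
  have h6 : IsLocalRing.closedPoint (Y.presheaf.stalk (f x₁)) ∈ L ⁻¹' (Set.range (pullback.diagonal f)) := by
    have h7 : t ⤳ IsLocalRing.closedPoint (Y.presheaf.stalk (f x₁)) :=
      IsLocalRing.specializes_closedPoint t
    exact hcl.stableUnderSpecialization h7 h5
  obtain ⟨z, hz⟩ := h6
  have h8 := congrArg (pullback.fst f f) hz
  have h9 := congrArg (pullback.snd f f) hz
  simp only [L, ← Scheme.Hom.comp_apply, pullback.diagonal_fst, pullback.diagonal_snd,
    pullback.lift_fst, pullback.lift_snd] at h8 h9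
  rw [hc₁] at h8
  rw [hc₂] at h9
  exact h8.symm.trans h9

theorem injective_iff {f : X ⟶ Y} (hf : IsLocalizing f) : Function.Injective f ↔
    (IsSeparated f ∧ Set.InjOn (fun x => f x) {x : X | ∀ x' : X, x' ⤳ x → x' = x}) := by
  constructor
  · intro h
    have := mono (f := f) ⟨hf, h⟩
    exact ⟨inferInstance, h.injOn⟩
  · rintro ⟨h1, h2⟩
    exact injective_of_isSeparated hf h2

end K947.Cancel
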