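import Groth.Agent.LocImm.K947.Immersion

/-!
# Affine charts of localizing immersions
-/

set_option autoImplicit false
universe u

open CategoryTheory AlgebraicGeometry LocImm TopologicalSpace

namespace K947.Chart

open K947.LocHom K947.Localizing K947.Immersion

variable {X Y Z : Scheme.{u}}

/-- Restriction to a basic open of an affine open is localizing. -/
theorem isLocHom_map_basicOpen {U V : X.Opens} (hU : IsAffineOpen U) (t : Γ(X, U)) (e : V ≤ U)
    (hV : V = X.basicOpen t) : IsLocHom (X.presheaf.map (homOfLE e).op).hom := by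
  subst hV
  have := hU.isLocalization_basicOpen t
  exact isLocHom_algebraMap (Submonoid.powers t)

/-- Localizing charts restrict to basic opens. -/
theorem isLocHom_appLE_basicOpen {f : X ⟶ Y} {U U' : Y.Opens} {V V' : X.Opens}
    (hU : IsAffineOpen U) (hV : IsAffineOpen V) (e : V ≤ f ⁻¹ᵁ U) (h : IsLocHom (f.appLE U V e).hom)
    (a : Γ(Y, U)) (hU' : U' = Y.basicOpen a) (b : Γ(X, V)) (hV' : V' = X.basicOpen b)
    (e' : V' ≤ f ⁻¹ᵁ U') : IsLocHom (f.appLE U' V' e').hom := by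
  have hUU : U' ≤ U := by rw [hU']; exact Y.basicOpen_le a
  have hVV : V' ≤ V := by rw [hV']; exact X.basicOpen_le b
  have h1 : f.appLE U V e ≫ X.presheaf.map (homOfLE hVV).op =
      Y.presheaf.map (homOfLE hUU).op ≫ f.appLE U' V' e' := by
    rw [Scheme.Hom.appLE_map, Scheme.Hom.map_appLE]
  have h2 : IsLocHom (f.appLE U V e ≫ X.presheaf.map (homOfLE hVV).op).hom := by
    rw [CommRingCat.hom_comp]
    exact IsLocHom.comp h (isLocHom_map_basicOpen hV b hVV hV')
  rw [h1, CommRingCat.hom_comp] at h2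
  exact IsLocHom.of_comp_of_isLocHom h2 (isLocHom_map_basicOpen hU a hUU hU')

/-- A localizing immersion (of Noetherian source): given an affine open `U₀` around `f x`, there are
arbitrarily small basic opens of `U₀` around `f x` whose preimage is affine with localizing ring
map. -/
theorem exists_basicOpen_chart [NoetherianSpace X] {f : X ⟶ Y} (hf : IsLocImmersion f) (x : X)
    {U₀ : Y.Opens} (hU₀ : IsAffineOpen U₀) (hxU₀ : f x ∈ U₀) {W : Y.Opens} (hW : f x ∈ W) :
    ∃ a : Γ(Y, U₀), Y.basicOpen a ≤ W ∧ f x ∈ Y.basicOpen a ∧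
      IsAffineOpen (f ⁻¹ᵁ Y.basicOpen a) ∧ IsLocHom (f.app (Y.basicOpen a)).hom := by
  obtain ⟨V₀, hV₀, hxV₀, -, e, h⟩ := IsLocalizing.exists_chart hf.1 hU₀ (W := ⊤) (x := x) trivial hxU₀
  obtain ⟨G, hG, hGV⟩ := (isEmbedding hf).isInducing.isOpen_iff.1 V₀.isOpen
  obtain ⟨a, ha, hxa⟩ := hU₀.exists_basicOpen_le (V := ⟨G, hG⟩ ⊓ W)
    ⟨f x, by change x ∈ f ⁻¹' G; rw [hGV]; exact hxV₀, hW⟩ hxU₀
  have hle : f ⁻¹ᵁ Y.basicOpen a ≤ V₀ := by
    intro z hz
    have : f z ∈ G := (ha hz).1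
    change z ∈ (V₀ : Set X)
    rw [← hGV]
    exact this
  have heq : f ⁻¹ᵁ Y.basicOpen a = X.basicOpen (f.appLE U₀ V₀ e a) := by
    rw [Scheme.basicOpen_appLE]
    exact (inf_eq_right.2 hle).symm
  refine ⟨a, ha.trans inf_le_right, hxa, ?_, ?_⟩
  · rw [heq]
    exact hV₀.basicOpen _
  · rw [← Scheme.Hom.appLE_eq_app]
    exact isLocHom_appLE_basicOpen hU₀ hV₀ e h a rfl _ heq le_rfl

/-- A localizing immersion (of Noetherian source) has, near each point of the image, arbitrarily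
small affine opens `V` of the target whose preimage is affine with localizing ring map. -/
theorem exists_affine_chart [NoetherianSpace X] {f : X ⟶ Y} (hf : IsLocImmersion f) (x : X)
    {W : Y.Opens} (hW : f x ∈ W) :
    ∃ V : Y.Opens, V ≤ W ∧ f x ∈ V ∧ IsAffineOpen V ∧ IsAffineOpen (f ⁻¹ᵁ V) ∧
      IsLocHom (f.app V).hom := by
  obtain ⟨_, ⟨U₀, hU₀, rfl⟩, hxU₀, hU₀W⟩ := Y.isBasis_affineOpens.exists_subset_of_mem_open
    hW W.isOpen
  have hU₀ : IsAffineOpen U₀ := hU₀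
  have hU₀W : U₀ ≤ W := hU₀W
  obtain ⟨a, h1, h2, h3, h4⟩ := exists_basicOpen_chart hf x hU₀ hxU₀ hW
  exact ⟨Y.basicOpen a, h1, h2, hU₀.basicOpen a, h3, h4⟩

theorem isLocImmersion_of_exists_affine_chart {f : X ⟶ Y}
    (h : ∀ x : X, ∃ V : Y.Opens, f x ∈ V ∧ IsAffineOpen V ∧ IsAffineOpen (f ⁻¹ᵁ V) ∧
      IsLocHom (f.app V).hom) : IsLocImmersion f := by
  constructor
  · intro x
    obtain ⟨V, hxV, hV, hV', h'⟩ := h x
    refine ⟨⟨V, hV⟩, ⟨f ⁻¹ᵁ V, hV'⟩, hxV, le_rfl, ?_⟩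
    rw [Scheme.Hom.appLE_eq_app]
    exact h'
  · intro x y hxy
    have hxy : f x = f y := hxy
    obtain ⟨V, hxV, hV, hV', h'⟩ := h x
    have hyV : f y ∈ V := hxy ▸ hxV
    have h1 := IsAffineOpen.comap_primeIdealOf_appLE V hV (f ⁻¹ᵁ V) hV' le_rfl (x := x) hxV
    have h2 := IsAffineOpen.comap_primeIdealOf_appLE V hV (f ⁻¹ᵁ V) hV' le_rfl (x := y) hyV
    have h3 : hV.primeIdealOf ⟨f x, hxV⟩ = hV.primeIdealOf ⟨f y, hyV⟩ := by
      congr 1
      exact Subtype.ext hxy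
    rw [← h1, ← h2] at h3
    rw [Scheme.Hom.appLE_eq_app] at h3
    have hinj : Function.Injective (PrimeSpectrum.comap (f.app V).hom) := by
      intro p q hpq
      rw [isLocHom_iff] at h'
      have hle : ∀ p q : PrimeSpectrum Γ(X, f ⁻¹ᵁ V), p.comap (f.app V).hom = q.comap (f.app V).hom →
          p.asIdeal ≤ q.asIdeal := by
        intro p q hpq b hb
        obtain ⟨a, s, hs, hb'⟩ := h'.1 b
        have h4 : (f.app V).hom a ∈ p.asIdeal := by
          rw [← hb']; exact p.asIdeal.mul_mem_right _ hb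
        have h5 : a ∈ (q.comap (f.app V).hom).asIdeal := by rw [← hpq]; exact h4
        have h6 : (f.app V).hom a ∈ q.asIdeal := h5
        rw [← hb'] at h6
        exact (q.2.mem_or_mem h6).resolve_right fun h7 => q.2.ne_top (Ideal.eq_top_of_isUnit_mem _ h7 hs)
      exact PrimeSpectrum.ext (le_antisymm (hle p q hpq) (hle q p hpq.symm))
    have h4 := hinj h3
    have h5 := congrArg (fun p => hV'.fromSpec p) h4
    simp only [IsAffineOpen.fromSpec_primeIdealOf] at h5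
    exact h5

theorem isLocImmersion_iff [NoetherianSpace X] (f : X ⟶ Y) : IsLocImmersion f ↔
    ∀ x : X, ∃ V : Y.Opens, f x ∈ V ∧ IsAffineOpen V ∧ IsAffineOpen (f ⁻¹ᵁ V) ∧
      IsLocHom (f.app V).hom := by
  refine ⟨fun hf x => ?_, isLocImmersion_of_exists_affine_chart⟩
  obtain ⟨V, -, h⟩ := exists_affine_chart hf x (W := ⊤) trivial
  exact ⟨V, h⟩

end K947.Chart
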