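import Groth.Agent.LocImm.K947.Glue

/-!
# Essentially finite type separated morphisms factor through localizing immersions
-/

set_option autoImplicit false
universe u

open CategoryTheory AlgebraicGeometry LocImm TopologicalSpace Limits

namespace K947.Factor

open K947.LocHom K947.Localizing K947.Immersion K947.Chart K947.Cancel K947.Spread K947.Nhd
  K947.TwoModels K947.Sep K947.Glue

variable {X Y Z S : Scheme.{u}}

/-- The factorization property. -/
def Fac (f : X ⟶ S) : Prop :=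
  ∃ (Y : Scheme.{u}) (k : X ⟶ Y) (p : Y ⟶ S), IsNoetherian Y ∧ IsLocImmersion k ∧
      IsSeparated p ∧ LocallyOfFiniteType p ∧ QuasiCompact p ∧ k ≫ p = f

theorem Fac.openImmersion_comp {f : X ⟶ S} (h : Fac f) (j : Y ⟶ X) [IsOpenImmersion j] :
    Fac (j ≫ f) := by
  obtain ⟨Z, k, p, h1, h2, h3, h4, h5, h6⟩ := h
  exact ⟨Z, j ≫ k, p, h1, IsLocImmersion.comp (isLocImmersion_of_isOpenImmersion j) h2, h3, h4, h5,
    by rw [Category.assoc, h6]⟩

/-- The factorization over an affine chart. -/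
theorem fac_of_chart [IsNoetherian S] (f : X ⟶ S) {U : S.Opens} (hU : IsAffineOpen U)
    {V : X.Opens} (hV : IsAffineOpen V) (e : V ≤ f ⁻¹ᵁ U) (h : (f.appLE U V e).hom.EssFiniteType) :
    Fac (V.ι ≫ f) := by
  have hN : IsNoetherianRing Γ(S, U) := IsLocallyNoetherian.component_noetherian ⟨U, hU⟩
  algebraize [(f.appLE U V e).hom]
  have hE : Algebra.EssFiniteType Γ(S, U) Γ(X, V) := h
  let B₀ := Algebra.EssFiniteType.subalgebra Γ(S, U) Γ(X, V)
  have hB₀ : IsNoetherianRing B₀ := Algebra.FiniteType.isNoetherianRing Γ(S, U) B₀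
  have hloc : IsLocHom (algebraMap B₀ Γ(X, V)) :=
    isLocHom_algebraMap (Algebra.EssFiniteType.submonoid Γ(S, U) Γ(X, V))
  let a : Γ(S, U) ⟶ CommRingCat.of B₀ := CommRingCat.ofHom (algebraMap Γ(S, U) B₀)
  let b : CommRingCat.of B₀ ⟶ Γ(X, V) := CommRingCat.ofHom (algebraMap B₀ Γ(X, V))
  have hab : a ≫ b = f.appLE U V e := by
    ext x
    rfl
  have hft : LocallyOfFiniteType (Spec.map a) := by
    rw [HasRingHomProperty.Spec_iff (P := @LocallyOfFiniteType)]
    change (algebraMap Γ(S, U) B₀).FiniteType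
    rw [RingHom.finiteType_algebraMap]
    infer_instance
  have : IsNoetherian (Spec Γ(S, U)) := inferInstance
  have hNB : IsNoetherian (Spec (CommRingCat.of B₀)) := inferInstance
  refine ⟨Spec (CommRingCat.of B₀), hV.isoSpec.hom ≫ Spec.map b, Spec.map a ≫ hU.fromSpec, hNB,
    IsLocImmersion.comp (isLocImmersion_of_isOpenImmersion _) (isLocImmersion_SpecMap b hloc),
    inferInstance, inferInstance, inferInstance, ?_⟩
  rw [Category.assoc, ← Spec.map_comp_assoc, hab,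
    IsAffineOpen.SpecMap_appLE_fromSpec f hU hV e, IsAffineOpen.isoSpec_hom_fromSpec_assoc]

theorem fac_sup [IsNoetherian X] [IsNoetherian S] (f : X ⟶ S) [IsSeparated f] (U₁ U₂ : X.Opens)
    (h₁ : Fac (U₁.ι ≫ f)) (h₂ : Fac (U₂.ι ≫ f)) : Fac ((U₁ ⊔ U₂).ι ≫ f) := by
  obtain ⟨Y₁, k₁, p₁, hN₁, hk₁, hs₁, hf₁, hq₁, e₁⟩ := h₁
  obtain ⟨Y₂, k₂, p₂, hN₂, hk₂, hs₂, hf₂, hq₂, e₂⟩ := h₂
  have nU := isNoetherian_opens (U₁ ⊔ U₂)
  exact factor_of_two_opens ((U₁ ⊔ U₂).ι ≫ f) ((U₁ ⊔ U₂).ι ⁻¹ᵁ U₁) ((U₁ ⊔ U₂).ι ⁻¹ᵁ U₂)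
    (by
      rw [← Scheme.Hom.preimage_sup]
      exact Scheme.Opens.ι_preimage_self _) Y₁ Y₂
    (((U₁ ⊔ U₂).ι ∣_ U₁) ≫ k₁) (((U₁ ⊔ U₂).ι ∣_ U₂) ≫ k₂) p₁ p₂
    (IsLocImmersion.comp (isLocImmersion_of_isOpenImmersion _) hk₁)
    (IsLocImmersion.comp (isLocImmersion_of_isOpenImmersion _) hk₂)
    (by rw [Category.assoc, e₁, morphismRestrict_ι_assoc])
    (by rw [Category.assoc, e₂, morphismRestrict_ι_assoc])

theorem fac_of_essFiniteType [IsNoetherian X] [IsNoetherian S] (f : X ⟶ S) [IsSeparated f]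
    [EssFT.LocallyEssFiniteType f] : Fac f := by
  have h1 : ∀ x : X, ∃ V : X.Opens, x ∈ V ∧ Fac (V.ι ≫ f) := by
    intro x
    obtain ⟨⟨U, hU⟩, ⟨V, hV⟩, hxV, e, h⟩ :=
      EssFT.LocallyEssFiniteType.exists_appLE_essFiniteType (f := f) x
    exact ⟨V, hxV, fac_of_chart f hU hV e h⟩
  choose V hxV hV using h1
  obtain ⟨t, ht⟩ := isCompact_univ.elim_finite_subcover (fun x => (V x : Set X))
    (fun x => (V x).isOpen) (fun x _ => Set.mem_iUnion.2 ⟨x, hxV x⟩)
  have h2 : ∀ s : Finset X, Fac ((s.sup V).ι ≫ f) := by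
    classical
    intro s
    induction s using Finset.induction_on with
    | empty =>
      have : IsEmpty ((Finset.sup ∅ V : X.Opens) : Scheme.{u}) := by
        rw [Finset.sup_empty]
        exact ⟨fun x => x.2⟩
      exact ⟨S, (Finset.sup ∅ V : X.Opens).ι ≫ f, 𝟙 S, inferInstance,
        isLocImmersion_of_isOpenImmersion _, inferInstance, inferInstance, inferInstance,
        Category.comp_id _⟩
    | insert a s _ ih =>
      rw [Finset.sup_insert]
      exact fac_sup f _ _ (hV a) ih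
  have h3 : t.sup V = ⊤ := by
    apply top_le_iff.1
    intro x _
    obtain ⟨y, hy, hxy⟩ := Set.mem_iUnion₂.1 (ht (Set.mem_univ x))
    exact (Finset.le_sup (f := V) hy) hxy
  have h4 := h2 t
  rw [h3] at h4
  have h5 := h4.openImmersion_comp X.topIso.inv
  have h6 : X.topIso.inv ≫ (⊤ : X.Opens).ι = 𝟙 X := by
    rw [← Scheme.topIso_hom, Iso.inv_hom_id]
  rwa [← Category.assoc, h6, Category.id_comp] at h5

end K947.Factor
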