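import Groth.Agent.LocImm.K947.Sep
import Groth.Agent.Flat2C.GlueSep
import Groth.Agent.Flat2C.NagataCore

/-!
# Factorizations through localizing immersions glue
-/

set_option autoImplicit false
universe u

open CategoryTheory AlgebraicGeometry LocImm TopologicalSpace Limits

namespace K947.Glue

open K947.LocHom K947.Localizing K947.Immersion K947.Chart K947.Cancel K947.Spread K947.Nhd
  K947.TwoModels K947.Sep

variable {X Y Z S : Scheme.{u}}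

theorem exists_of_isPullback {P A B C : Scheme.{u}} {p : P ⟶ A} {q : P ⟶ B} {f : A ⟶ C} {g : B ⟶ C}
    (h : IsPullback p q f g) {a : A} {b : B} (hab : f a = g b) : ∃ w : P, p w = a ∧ q w = b := by
  obtain ⟨t, ht₁, ht₂⟩ := Scheme.Pullback.exists_preimage_pullback _ _ hab
  refine ⟨h.isoPullback.inv t, ?_, ?_⟩
  · rw [← Scheme.Hom.comp_apply, h.isoPullback_inv_fst, ht₁]
  · rw [← Scheme.Hom.comp_apply, h.isoPullback_inv_snd, ht₂]

/-- S18192. -/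
theorem factor_of_two_opens [IsNoetherian X] [IsNoetherian S] (f : X ⟶ S) [IsSeparated f]
    (U₁ U₂ : X.Opens) (hU : U₁ ⊔ U₂ = ⊤) (Y₁ Y₂ : Scheme.{u}) [IsNoetherian Y₁] [IsNoetherian Y₂]
    (k₁ : (U₁ : Scheme.{u}) ⟶ Y₁) (k₂ : (U₂ : Scheme.{u}) ⟶ Y₂) (p₁ : Y₁ ⟶ S) (p₂ : Y₂ ⟶ S)
    (hk₁ : IsLocImmersion k₁) (hk₂ : IsLocImmersion k₂)
    [IsSeparated p₁] [IsSeparated p₂] [LocallyOfFiniteType p₁] [LocallyOfFiniteType p₂]
    [QuasiCompact p₁] [QuasiCompact p₂]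
    (h₁ : k₁ ≫ p₁ = U₁.ι ≫ f) (h₂ : k₂ ≫ p₂ = U₂.ι ≫ f) :
    ∃ (Y : Scheme.{u}) (k : X ⟶ Y) (p : Y ⟶ S), IsNoetherian Y ∧ IsLocImmersion k ∧
      IsSeparated p ∧ LocallyOfFiniteType p ∧ QuasiCompact p ∧ k ≫ p = f := by
  have nU₁ := isNoetherian_opens U₁
  have nU₂ := isNoetherian_opens U₂
  have nU₁₂ := isNoetherian_opens (U₁ ⊓ U₂)
  let j₁ := X.homOfLE (inf_le_left : U₁ ⊓ U₂ ≤ U₁)
  let j₂ := X.homOfLE (inf_le_right : U₁ ⊓ U₂ ≤ U₂)
  have hj₁ : IsLocImmersion (j₁ ≫ k₁) := IsLocImmersion.comp (isLocImmersion_of_isOpenImmersion _) hk₁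
  have hj₂ : IsLocImmersion (j₂ ≫ k₂) := IsLocImmersion.comp (isLocImmersion_of_isOpenImmersion _) hk₂
  have := mono hj₁
  have := mono hj₂
  obtain ⟨W₀, k₀, g₁, g₂, hk₀, hg₁, hg₂, hgp, hkg₁, hkg₂⟩ := exists_common_open (j₁ ≫ k₁) (j₂ ≫ k₂)
    p₁ p₂ hj₁ hj₂ (by
      rw [Category.assoc, Category.assoc, h₁, h₂, Scheme.homOfLE_ι_assoc, Scheme.homOfLE_ι_assoc])
  -- shrink `W₀`
  obtain ⟨G₁, hG₁, hG₁'⟩ := (isEmbedding hk₁).isInducing.isOpen_iff.1 j₁.opensRange.isOpen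
  obtain ⟨G₂, hG₂, hG₂'⟩ := (isEmbedding hk₂).isInducing.isOpen_iff.1 j₂.opensRange.isOpen
  let W : W₀.Opens := g₁ ⁻¹ᵁ ⟨G₁, hG₁⟩ ⊓ g₂ ⁻¹ᵁ ⟨G₂, hG₂⟩
  obtain ⟨Y, o₁, o₂, ho₁, ho₂, hpo, hpb, hcov⟩ :=
    Groth.Agent.Flat2C.GlueSep.exists_pushout (W.ι ≫ g₁) (W.ι ≫ g₂)
  let p : Y ⟶ S := hpo.desc p₁ p₂ (by rw [Category.assoc, Category.assoc, hgp])
  have hp₁ : o₁ ≫ p = p₁ := hpo.inl_desc _ _ _
  have hp₂ : o₂ ≫ p = p₂ := hpo.inr_desc _ _ _
  have hr : Set.range k₀ ⊆ Set.range W.ι := by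
    rw [Scheme.Opens.range_ι]
    rintro _ ⟨x, rfl⟩
    constructor
    · change g₁ (k₀ x) ∈ G₁
      rw [← Scheme.Hom.comp_apply, hkg₁, Scheme.Hom.comp_apply]
      change j₁ x ∈ k₁ ⁻¹' G₁
      rw [hG₁']
      exact ⟨x, rfl⟩
    · change g₂ (k₀ x) ∈ G₂
      rw [← Scheme.Hom.comp_apply, hkg₂, Scheme.Hom.comp_apply]
      change j₂ x ∈ k₂ ⁻¹' G₂
      rw [hG₂']
      exact ⟨x, rfl⟩
  have hl : IsOpenImmersion.lift W.ι k₀ hr ≫ W.ι = k₀ := IsOpenImmersion.lift_fac _ _ _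
  obtain ⟨k, hk1, hk2⟩ := Groth.Agent.Flat2C.NagataCore.exists_desc U₁ U₂ hU (k₁ ≫ o₁) (k₂ ≫ o₂) (by
    change j₁ ≫ k₁ ≫ o₁ = j₂ ≫ k₂ ≫ o₂
    rw [← Category.assoc, ← Category.assoc, ← hkg₁, ← hkg₂, ← hl]
    simp only [Category.assoc]
    have := hpo.w
    simp only [Category.assoc] at this
    rw [this])
  have hkp : k ≫ p = f := by
    apply Groth.Agent.Flat2C.NagataCore.hom_ext_of_cover U₁ U₂ hU
    · rw [reassoc_of% hk1, hp₁, h₁]
    · rw [reassoc_of% hk2, hp₂, h₂]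
  have hko₁ : IsLocImmersion (k₁ ≫ o₁) := IsLocImmersion.comp hk₁ (isLocImmersion_of_isOpenImmersion _)
  have hko₂ : IsLocImmersion (k₂ ≫ o₂) := IsLocImmersion.comp hk₂ (isLocImmersion_of_isOpenImmersion _)
  have hmemU : ∀ x : X, x ∈ U₁ ∨ x ∈ U₂ := fun x => by
    have : x ∈ U₁ ⊔ U₂ := by rw [hU]; trivial
    exact this
  have hk1x : ∀ x : U₁, k (U₁.ι x) = o₁ (k₁ x) := fun x => by
    rw [← Scheme.Hom.comp_apply, hk1, Scheme.Hom.comp_apply]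
  have hk2x : ∀ x : U₂, k (U₂.ι x) = o₂ (k₂ x) := fun x => by
    rw [← Scheme.Hom.comp_apply, hk2, Scheme.Hom.comp_apply]
  -- a point of `U₁` and a point of `U₂` with the same image
  have hmix : ∀ (x : U₁) (x' : U₂), o₁ (k₁ x) = o₂ (k₂ x') → U₁.ι x ∈ U₂ := by
    intro x x' h
    obtain ⟨w, hw₁, hw₂⟩ := exists_of_isPullback hpb h
    have h3 : k₁ x ∈ G₁ := by
      rw [← hw₁]
      exact w.2.1
    have h4 : x ∈ k₁ ⁻¹' G₁ := h3
    rw [hG₁'] at h4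
    obtain ⟨z, rfl⟩ := h4
    rw [← Scheme.Hom.comp_apply, Scheme.homOfLE_ι]
    exact z.2.2
  have hinj : Function.Injective k := by
    intro x x' h
    rcases hmemU x with hx | hx <;> rcases hmemU x' with hx' | hx'
    · have := hko₁.2 (a₁ := ⟨x, hx⟩) (a₂ := ⟨x', hx'⟩) (by
        have h5 := hk1x ⟨x, hx⟩
        have h6 := hk1x ⟨x', hx'⟩
        rw [← Scheme.Hom.comp_apply] at h5 h6
        exact h5.symm.trans (h.trans h6))
      exact congrArg Subtype.val this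
    · have h5 := hk1x ⟨x, hx⟩
      have h6 := hk2x ⟨x', hx'⟩
      have h7 := hmix ⟨x, hx⟩ ⟨x', hx'⟩ (h5.symm.trans (h.trans h6))
      have := hko₂.2 (a₁ := ⟨x, h7⟩) (a₂ := ⟨x', hx'⟩) (by
        have h5 := hk2x ⟨x, h7⟩
        have h6 := hk2x ⟨x', hx'⟩
        rw [← Scheme.Hom.comp_apply] at h5 h6
        exact h5.symm.trans (h.trans h6))
      exact congrArg Subtype.val this
    · have h5 := hk2x ⟨x, hx⟩
      have h6 := hk1x ⟨x', hx'⟩
      have h7 := hmix ⟨x', hx'⟩ ⟨x, hx⟩ (h6.symm.trans (h.symm.trans h5))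
      have := hko₂.2 (a₁ := ⟨x, hx⟩) (a₂ := ⟨x', h7⟩) (by
        have h5 := hk2x ⟨x, hx⟩
        have h6 := hk2x ⟨x', h7⟩
        rw [← Scheme.Hom.comp_apply] at h5 h6
        exact h5.symm.trans (h.trans h6))
      exact congrArg Subtype.val this
    · have := hko₂.2 (a₁ := ⟨x, hx⟩) (a₂ := ⟨x', hx'⟩) (by
        have h5 := hk2x ⟨x, hx⟩
        have h6 := hk2x ⟨x', hx'⟩
        rw [← Scheme.Hom.comp_apply] at h5 h6
        exact h5.symm.trans (h.trans h6))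
      exact congrArg Subtype.val this
  have hkloc : IsLocImmersion k := by
    refine ⟨isLocalizing_of_forall_exists fun x => ?_, hinj⟩
    rcases hmemU x with hx | hx
    · exact ⟨U₁, hx, by rw [hk1]; exact hko₁.1⟩
    · exact ⟨U₂, hx, by rw [hk2]; exact hko₂.1⟩
  have hft : LocallyOfFiniteType p := by
    have : LocallyOfFiniteType (o₁ ≫ p) := by rw [hp₁]; infer_instance
    have : LocallyOfFiniteType (o₂ ≫ p) := by rw [hp₂]; infer_instance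
    exact Groth.Agent.Flat2C.GlueSep.locallyOfFiniteType_of_two p o₁ o₂ hcov
  have hqc : QuasiCompact p := by
    have : QuasiCompact (o₁ ≫ p) := by rw [hp₁]; infer_instance
    have : QuasiCompact (o₂ ≫ p) := by rw [hp₂]; infer_instance
    exact Groth.Agent.Flat2C.GlueSep.quasiCompact_of_two p o₁ o₂ hcov
  have hYN : IsNoetherian Y := isNoetherian_of_finiteType p
  have hPN : IsNoetherian (pullback p p) := isNoetherian_of_finiteType (pullback.fst p p)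
  have : IsSeparated (k ≫ p) := by rw [hkp]; infer_instance
  obtain ⟨V, hV, hVsep⟩ := exists_isSeparated_nhd k p hkloc
  have hVN := isNoetherian_opens V
  have hkV : IsOpenImmersion.lift V.ι k (by rw [Scheme.Opens.range_ι]; exact hV) ≫ V.ι = k :=
    IsOpenImmersion.lift_fac _ _ _
  refine ⟨V, IsOpenImmersion.lift V.ι k (by rw [Scheme.Opens.range_ι]; exact hV), V.ι ≫ p,
    hVN, ?_, hVsep, inferInstance, inferInstance, ?_⟩
  · apply isLocImmersion_of_comp (isLocImmersion_of_isOpenImmersion V.ι)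
    rw [hkV]
    exact hkloc
  · rw [reassoc_of% hkV, hkp]

end K947.Glue
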