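import Groth.Prelude.Def_W4c5cptfessfintypeLocImm
import Mathlib.RingTheory.RingHomProperties
import Mathlib.RingTheory.LocalProperties.Basic
import Mathlib.RingTheory.Localization.LocalizationLocalization
import Mathlib.RingTheory.Localization.BaseChange
import Mathlib.RingTheory.RingHom.Locally

/-!
# Localizing ring maps: elementary facts
-/

set_option autoImplicit false
universe u

open LocImm

namespace K947.LocHom

section

variable {A B C : Type*} [CommRing A] [CommRing B] [CommRing C]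

/-- Elementary characterization of localizing ring maps. -/
theorem isLocHom_iff {φ : A →+* B} : IsLocHom φ ↔
    (∀ b : B, ∃ a s : A, IsUnit (φ s) ∧ b * φ s = φ a) ∧
      ∀ a : A, φ a = 0 → ∃ s : A, IsUnit (φ s) ∧ s * a = 0 := by
  letI := φ.toAlgebra
  constructor
  · rintro ⟨S, hS⟩
    have hS : IsLocalization S B := hS
    refine ⟨fun b => ?_, fun a ha => ?_⟩
    · obtain ⟨⟨a, s⟩, h⟩ := IsLocalization.surj S b
      exact ⟨a, s, IsLocalization.map_units B s, h⟩
    · obtain ⟨s, hs⟩ := (IsLocalization.map_eq_zero_iff S B a).1 ha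
      exact ⟨s, IsLocalization.map_units B s, hs⟩
  · rintro ⟨h1, h2⟩
    refine ⟨(IsUnit.submonoid B).comap φ, ?_⟩
    show IsLocalization _ B
    refine ⟨⟨fun s => s.2, fun b => ?_, fun {x y} hxy => ?_⟩⟩
    · obtain ⟨a, s, hs, h⟩ := h1 b
      exact ⟨(a, ⟨s, hs⟩), h⟩
    · obtain ⟨s, hs, h⟩ := h2 (x - y) (by rw [map_sub, sub_eq_zero]; exact hxy)
      exact ⟨⟨s, hs⟩, by rw [mul_sub, sub_eq_zero] at h; exact h⟩

theorem isLocHom_algebraMap [Algebra A B] (S : Submonoid A) [IsLocalization S B] :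
    IsLocHom (algebraMap A B) := by
  rw [isLocHom_iff]
  refine ⟨fun b => ?_, fun a ha => ?_⟩
  · obtain ⟨⟨a, s⟩, h⟩ := IsLocalization.surj S b
    exact ⟨a, s, IsLocalization.map_units B s, h⟩
  · obtain ⟨s, hs⟩ := (IsLocalization.map_eq_zero_iff S B a).1 ha
    exact ⟨s, IsLocalization.map_units B s, hs⟩

theorem isLocHom_id : IsLocHom (RingHom.id A) := by
  rw [isLocHom_iff]
  exact ⟨fun b => ⟨b, 1, by simp, by simp⟩, fun a ha => ⟨1, by simp, by simpa using ha⟩⟩

theorem isLocHom_of_bijective {φ : A →+* B} (h : Function.Bijective φ) : IsLocHom φ := by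
  rw [isLocHom_iff]
  refine ⟨fun b => ?_, fun a ha => ⟨1, by simp, ?_⟩⟩
  · obtain ⟨a, rfl⟩ := h.2 b
    exact ⟨a, 1, by simp, by simp⟩
  · rw [one_mul]; exact h.1 (by rw [ha, map_zero])

theorem IsLocHom.comp {φ : A →+* B} {ψ : B →+* C} (hφ : IsLocHom φ) (hψ : IsLocHom ψ) :
    IsLocHom (ψ.comp φ) := by
  rw [isLocHom_iff] at *
  obtain ⟨h1, h2⟩ := hφ
  obtain ⟨g1, g2⟩ := hψ
  refine ⟨fun c => ?_, fun a ha => ?_⟩
  · obtain ⟨b, t, ht, h⟩ := g1 c
    obtain ⟨a, s, hs, hb⟩ := h1 b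
    obtain ⟨a', s', hs', hb'⟩ := h1 t
    -- t * φ s' = φ a', b * φ s = φ a
    refine ⟨a * s', s * a', ?_, ?_⟩
    · simp only [RingHom.comp_apply, map_mul]
      rw [← hb', map_mul]
      exact (hs.map ψ).mul (ht.mul (hs'.map ψ))
    · simp only [RingHom.comp_apply, map_mul]
      rw [← hb', ← hb, map_mul, map_mul]
      calc c * (ψ (φ s) * (ψ t * ψ (φ s'))) = (c * ψ t) * ψ (φ s) * ψ (φ s') := by ring
        _ = _ := by rw [h]
  · obtain ⟨t, ht, h⟩ := g2 (φ a) ha
    obtain ⟨a', s', hs', hb'⟩ := h1 t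
    obtain ⟨s, hs, h'⟩ := h2 (a' * a) (by rw [map_mul, ← hb']; linear_combination φ s' * h)
    refine ⟨s * a', ?_, by rw [mul_assoc]; exact h'⟩
    simp only [RingHom.comp_apply, map_mul]
    rw [← hb', map_mul]
    exact (hs.map ψ).mul (ht.mul (hs'.map ψ))

/-- Cancellation: if `ψ ∘ φ` is localizing and the kernel of `ψ` is killed by elements coming from
`A` that become units in `C`, then `ψ` is localizing. -/
theorem IsLocHom.of_comp {φ : A →+* B} {ψ : B →+* C} (h : IsLocHom (ψ.comp φ))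
    (hk : ∀ b : B, ψ b = 0 → ∃ s : B, IsUnit (ψ s) ∧ s * b = 0) : IsLocHom ψ := by
  rw [isLocHom_iff] at *
  refine ⟨fun c => ?_, hk⟩
  obtain ⟨a, s, hs, h⟩ := h.1 c
  exact ⟨φ a, φ s, hs, h⟩

theorem IsLocHom.of_comp_of_injective {φ : A →+* B} {ψ : B →+* C} (h : IsLocHom (ψ.comp φ))
    (hi : Function.Injective ψ) : IsLocHom ψ :=
  IsLocHom.of_comp h fun b hb => ⟨1, by simp, by rw [one_mul]; exact hi (by rw [hb, map_zero])⟩

theorem IsLocHom.of_comp_of_isLocHom {φ : A →+* B} {ψ : B →+* C} (h : IsLocHom (ψ.comp φ))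
    (hφ : IsLocHom φ) : IsLocHom ψ := by
  refine IsLocHom.of_comp h fun b hb => ?_
  rw [isLocHom_iff] at h hφ
  obtain ⟨a, s, hs, hb'⟩ := hφ.1 b
  obtain ⟨t, ht, hta⟩ := h.2 a (by rw [RingHom.comp_apply, ← hb', map_mul, hb, zero_mul])
  refine ⟨φ t, ht, ?_⟩
  have h0 : φ t * b * φ s = 0 := by
    rw [mul_assoc, hb', ← map_mul, hta, map_zero]
  exact (hs.mul_left_eq_zero).1 h0

theorem IsLocHom.ringEquiv_comp {φ : A →+* B} (h : IsLocHom φ) (e : B ≃+* C) :
    IsLocHom (e.toRingHom.comp φ) :=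
  IsLocHom.comp h (isLocHom_of_bijective e.bijective)

/-- A localizing ring map is an epimorphism (elementwise form). -/
theorem IsLocHom.hom_ext {φ : A →+* B} (h : IsLocHom φ) {f g : B →+* C}
    (hfg : f.comp φ = g.comp φ) : f = g := by
  ext b
  rw [isLocHom_iff] at h
  obtain ⟨a, s, hs, hb⟩ := h.1 b
  have h1 := congrArg f hb
  have h2 := congrArg g hb
  rw [map_mul] at h1 h2
  have hs' : f (φ s) = g (φ s) := DFunLike.congr_fun hfg s
  have ha' : f (φ a) = g (φ a) := DFunLike.congr_fun hfg a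
  rw [ha', ← h2, hs'] at h1
  exact ((hs.map g).mul_left_inj).1 h1

end

theorem respectsIso : RingHom.RespectsIso (fun {R S : Type u} [CommRing R] [CommRing S] (f : R →+* S) => IsLocHom f) :=
  ⟨fun f e hf => IsLocHom.comp hf (isLocHom_of_bijective e.bijective),
    fun f e hf => IsLocHom.comp (isLocHom_of_bijective e.bijective) hf⟩

theorem stableUnderComposition :
    RingHom.StableUnderComposition (fun {R S : Type u} [CommRing R] [CommRing S] (f : R →+* S) => IsLocHom f) :=
  fun _ _ _ _ _ _ _ _ hf hg => IsLocHom.comp hf hg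

theorem holdsForLocalization :
    RingHom.HoldsForLocalization (fun {R S : Type u} [CommRing R] [CommRing S] (f : R →+* S) => IsLocHom f) := by
  intro R S _ _ _ M _
  exact isLocHom_algebraMap M

theorem isStableUnderBaseChange :
    RingHom.IsStableUnderBaseChange (fun {R S : Type u} [CommRing R] [CommRing S] (f : R →+* S) => IsLocHom f) := by
  refine RingHom.IsStableUnderBaseChange.mk respectsIso ?_
  intro R S T _ _ _ _ _ h
  obtain ⟨M, hM⟩ := h
  have hM : IsLocalization M T := by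
    convert hM
    exact Algebra.algebra_ext _ _ fun r => rfl
  have : IsLocalization (Algebra.algebraMapSubmonoid S M) (TensorProduct R S T) := inferInstance
  exact isLocHom_algebraMap (Algebra.algebraMapSubmonoid S M)

end K947.LocHom
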