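import Groth.Agent.LocImm.K947.LocHom
import Mathlib.AlgebraicGeometry.Morphisms.RingHomProperties
import Mathlib.AlgebraicGeometry.Morphisms.Preimmersion

/-!
# Localizing morphisms of schemes: first properties
-/

set_option autoImplicit false
universe u

open CategoryTheory AlgebraicGeometry LocImm TopologicalSpace

namespace K947.Localizing

open K947.LocHom

/-- "Localizing" as a morphism property. -/
def locProp : MorphismProperty Scheme.{u} := fun _ _ f => IsLocalizing f

instance hasRingHomProperty : HasRingHomProperty locProp.{u}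
    (RingHom.Locally (fun {R S : Type u} [CommRing R] [CommRing S] (f : R →+* S) => IsLocHom f)) := by
  apply HasRingHomProperty.locally_of_iff
  · exact isStableUnderBaseChange.localizationPreserves.away
  · exact stableUnderComposition.stableUnderCompositionWithLocalizationAway
      holdsForLocalization.holdsForLocalizationAway
  · intro X Y f
    exact Iff.rfl

instance : locProp.{u}.IsStableUnderComposition :=
  HasRingHomProperty.stableUnderComposition
    (RingHom.locally_stableUnderComposition respectsIso
      isStableUnderBaseChange.localizationPreserves stableUnderComposition)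

instance : locProp.{u}.IsStableUnderBaseChange :=
  HasRingHomProperty.isStableUnderBaseChange
    (RingHom.locally_isStableUnderBaseChange respectsIso isStableUnderBaseChange)

variable {X Y Z : Scheme.{u}}

theorem isLocalizing_of_isOpenImmersion (f : X ⟶ Y) [IsOpenImmersion f] : IsLocalizing f :=
  HasRingHomProperty.of_isOpenImmersion (P := locProp)
    (fun _ _ => RingHom.locally_of respectsIso _ isLocHom_id)

theorem IsLocalizing.comp {f : X ⟶ Y} {g : Y ⟶ Z} (hf : IsLocalizing f) (hg : IsLocalizing g) :
    IsLocalizing (f ≫ g) :=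
  MorphismProperty.comp_mem locProp f g hf hg

theorem isLocalizing_pullback_snd {Y' : Scheme.{u}} {f : X ⟶ Y} (g : Y' ⟶ Y) (hf : IsLocalizing f) :
    IsLocalizing (Limits.pullback.snd f g) :=
  MorphismProperty.pullback_snd (P := locProp) f g hf

theorem isLocalizing_pullback_fst {Y' : Scheme.{u}} {f : X ⟶ Y} (g : Y' ⟶ Y) (hf : IsLocalizing f) :
    IsLocalizing (Limits.pullback.fst g f) :=
  MorphismProperty.pullback_fst (P := locProp) g f hf

/-- A morphism is localizing if it is so on an open neighbourhood of each point of the source. -/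
theorem isLocalizing_of_forall_exists {f : X ⟶ Y}
    (h : ∀ x : X, ∃ U : X.Opens, x ∈ U ∧ IsLocalizing (U.ι ≫ f)) : IsLocalizing f := by
  choose U hxU hU using h
  refine (IsZariskiLocalAtSource.iff_of_iSup_eq_top (P := locProp) U ?_).2 fun x => hU x
  exact Opens.ext (Set.eq_univ_of_forall fun x => by simpa using ⟨x, hxU x⟩)

theorem bijective_localRingHom {A B : Type u} [CommRing A] [CommRing B] {φ : A →+* B}
    (h : IsLocHom φ) (q : Ideal B) [hq : q.IsPrime] (p : Ideal A) [hp : p.IsPrime]
    (hpq : p = q.comap φ) :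
    Function.Bijective (Localization.localRingHom p q φ hpq) := by
  subst hpq
  let := φ.toAlgebra
  obtain ⟨S, hS⟩ := h
  have hS : IsLocalization S B := hS
  have h1 : IsLocalization.AtPrime (Localization.AtPrime q) (q.comap (algebraMap A B)) :=
    IsLocalization.isLocalization_isLocalization_atPrime_isLocalization S (Localization.AtPrime q) q
  have h2 : IsLocalization (q.comap φ).primeCompl (Localization.AtPrime q) := h1
  have h3 : Localization.localRingHom (q.comap φ) q φ rfl =
      ((IsLocalization.algEquiv (q.comap φ).primeCompl (Localization.AtPrime (q.comap φ))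
        (Localization.AtPrime q)).toRingEquiv : _ →+* _) := by
    apply IsLocalization.ringHom_ext (q.comap φ).primeCompl
    ext a
    simp only [RingHom.comp_apply, Localization.localRingHom_to_map]
    exact ((IsLocalization.algEquiv (q.comap φ).primeCompl (Localization.AtPrime (q.comap φ))
        (Localization.AtPrime q)).commutes a).symm
  rw [h3]
  exact (IsLocalization.algEquiv (q.comap φ).primeCompl (Localization.AtPrime (q.comap φ))
        (Localization.AtPrime q)).bijective

theorem IsLocalizing.isIso_stalkMap {f : X ⟶ Y} (hf : IsLocalizing f) (x : X) :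
    IsIso (f.stalkMap x) := by
  obtain ⟨U, V, hx, e, h⟩ := hf x
  have h1 := IsAffineOpen.arrowStalkMapIso f U.1 U.2 V.1 V.2 e hx
  have h2 : IsIso (CommRingCat.ofHom <|
      Localization.localRingHom _ _ (f.appLE U V e).hom
        congr($(IsAffineOpen.comap_primeIdealOf_appLE U.1 U.2 V.1 V.2 e hx).1).symm) := by
    rw [ConcreteCategory.isIso_iff_bijective]
    exact bijective_localRingHom h _ _
      congr($(IsAffineOpen.comap_primeIdealOf_appLE U.1 U.2 V.1 V.2 e hx).1).symm
  exact ((MorphismProperty.isomorphisms CommRingCat).arrow_mk_iso_iff h1).2 h2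

/-- Localizing morphisms: over any affine open `U` of the target, near any point there is a
localizing chart inside any prescribed open of the source. -/
theorem IsLocalizing.exists_chart {f : X ⟶ Y} (hf : IsLocalizing f) {U : Y.Opens}
    (hU : IsAffineOpen U) {W : X.Opens} {x : X} (hxW : x ∈ W) (hxU : f x ∈ U) :
    ∃ (V : X.Opens) (_ : IsAffineOpen V) (_ : x ∈ V) (_ : V ≤ W) (e : V ≤ f ⁻¹ᵁ U),
      IsLocHom (f.appLE U V e).hom := by
  obtain ⟨_, ⟨V₀, hV₀, rfl⟩, hxV₀, hV₀W⟩ := X.isBasis_affineOpens.exists_subset_of_mem_open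
    (show x ∈ (W ⊓ f ⁻¹ᵁ U : X.Opens) from ⟨hxW, hxU⟩) (W ⊓ f ⁻¹ᵁ U).isOpen
  have hV₀ : IsAffineOpen V₀ := hV₀
  have hV₀W : V₀ ≤ W ⊓ f ⁻¹ᵁ U := hV₀W
  have h0 := HasRingHomProperty.appLE (P := locProp) f hf ⟨U, hU⟩ ⟨V₀, hV₀⟩ (hV₀W.trans inf_le_right)
  rw [RingHom.locally_iff_isLocalization respectsIso] at h0
  obtain ⟨s, hs, h⟩ := h0
  have hcov : ∃ t ∈ s, x ∈ X.basicOpen t := by
    by_contra hcon
    push Not at hcon
    have h1 : (⨆ t : (s : Set Γ(X, V₀)), X.basicOpen (t : Γ(X, V₀))) = V₀ :=
      (IsAffineOpen.iSup_basicOpen_eq_self_iff hV₀).2 hs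
    have h2 : x ∈ (⨆ t : (s : Set Γ(X, V₀)), X.basicOpen (t : Γ(X, V₀)) : X.Opens) := by
      rw [h1]; exact hxV₀
    rw [Opens.mem_iSup] at h2
    obtain ⟨t, ht⟩ := h2
    exact hcon t.1 t.2 ht
  obtain ⟨t, ht, hxt⟩ := hcov
  have hloc := IsAffineOpen.isLocalization_basicOpen hV₀ t
  refine ⟨X.basicOpen t, IsAffineOpen.basicOpen hV₀ t, hxt, (X.basicOpen_le t).trans
    (hV₀W.trans inf_le_left), (X.basicOpen_le t).trans (hV₀W.trans inf_le_right), ?_⟩
  have h1 := h t ht Γ(X, X.basicOpen t)
  convert h1 using 1
  rw [← Scheme.Hom.appLE_map f (hV₀W.trans inf_le_right) (homOfLE (X.basicOpen_le t)).op]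
  rfl

end K947.Localizing
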