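import Groth.Agent.LocImm.K947.TwoModels
import Mathlib.AlgebraicGeometry.PullbackCarrier
import Mathlib.AlgebraicGeometry.Morphisms.Immersion
import Mathlib.Topology.LocallyClosed

/-!
# Separated neighbourhoods of a localizing immersion
-/

set_option autoImplicit false
universe u

open CategoryTheory AlgebraicGeometry LocImm TopologicalSpace Limits

namespace K947.Sep

open K947.LocHom K947.Localizing K947.Immersion K947.Chart K947.Cancel K947.Spread K947.Nhd
  K947.TwoModels

variable {X Y Z S : Scheme.{u}}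

/-- Every point of the closure of the image of a Noetherian scheme is a specialization of a point of
the image. -/
theorem exists_specializes_of_mem_closure [NoetherianSpace X] (f : X ⟶ Y) {C : Set X} (hC : IsClosed C)
    {y : Y} (hy : y ∈ closure (f '' C)) : ∃ x ∈ C, f x ⤳ y := by
  obtain ⟨S, hS, hcl, hirr, hCS⟩ := NoetherianSpace.exists_finite_set_isClosed_irreducible hC
  have h1 : closure (f '' C) = ⋃ t ∈ S, closure (f '' t) := by
    rw [hCS, Set.sUnion_eq_biUnion, Set.image_iUnion₂]
    exact hS.closure_biUnion _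
  rw [h1] at hy
  simp only [Set.mem_iUnion] at hy
  obtain ⟨t, ht, hxt⟩ := hy
  obtain ⟨ξ, hξ⟩ := QuasiSober.sober (hirr t ht) (hcl t ht)
  have hξ' : closure {ξ} = t := hξ
  have h2 : closure (f '' t) ⊆ closure {f ξ} := by
    refine closure_minimal ?_ isClosed_closure
    rintro _ ⟨z, hz, rfl⟩
    rw [← hξ'] at hz
    have : f ξ ⤳ f z := (specializes_iff_mem_closure.2 hz).map f.continuous
    exact specializes_iff_mem_closure.1 this
  refine ⟨ξ, ?_, specializes_iff_mem_closure.2 (h2 hxt)⟩
  rw [hCS]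
  exact ⟨t, ht, by rw [← hξ']; exact subset_closure rfl⟩

/-- The product over the base of two localizing immersions. -/
theorem isLocImmersion_map {X' Y' : Scheme.{u}} {k : X ⟶ Y} {k' : X' ⟶ Y'} (hk : IsLocImmersion k)
    (hk' : IsLocImmersion k') (p : Y ⟶ S) (p' : Y' ⟶ S) :
    IsLocImmersion (pullback.map (k ≫ p) (k' ≫ p') p p' k k' (𝟙 S) (Category.comp_id _)
      (Category.comp_id _)) := by
  have h1 : locProp (pullback.map (k ≫ p) (k' ≫ p') p p' k k' (𝟙 S) (Category.comp_id _)
      (Category.comp_id _)) := MorphismProperty.pullbackMap (P := locProp) hk.1 hk'.1 rfl rfl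
  have := mono hk
  have := mono hk'
  have h2 : (MorphismProperty.monomorphisms Scheme.{u}) (pullback.map (k ≫ p) (k' ≫ p') p p' k k'
      (𝟙 S) (Category.comp_id _) (Category.comp_id _)) :=
    MorphismProperty.pullbackMap (P := MorphismProperty.monomorphisms Scheme.{u})
      (MorphismProperty.monomorphisms.infer_property k)
      (MorphismProperty.monomorphisms.infer_property k') rfl rfl
  have : Mono (pullback.map (k ≫ p) (k' ≫ p') p p' k k' (𝟙 S) (Category.comp_id _)
      (Category.comp_id _)) := h2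
  exact isLocImmersion_of_mono h1

/-- If `k : X ⟶ Y` is a localizing immersion into an `S`-scheme `p : Y ⟶ S` and `X` is separated
over `S`, then some open neighbourhood of the image of `k` is separated over `S`. -/
theorem exists_isSeparated_nhd [NoetherianSpace Y] (k : X ⟶ Y) (p : Y ⟶ S)
    [NoetherianSpace (pullback p p : Scheme.{u})]
    (hk : IsLocImmersion k) [IsSeparated (k ≫ p)] :
    ∃ V : Y.Opens, Set.range k ⊆ (V : Set Y) ∧ IsSeparated (V.ι ≫ p) := by
  let κ := pullback.map (k ≫ p) (k ≫ p) p p k k (𝟙 S) (Category.comp_id _) (Category.comp_id _)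
  have hκ : IsLocImmersion κ := isLocImmersion_map hk hk p p
  let q₁ : (pullback (k ≫ p) (k ≫ p) : Scheme.{u}) ⟶ X := pullback.fst _ _
  let q₂ : (pullback (k ≫ p) (k ≫ p) : Scheme.{u}) ⟶ X := pullback.snd _ _
  have hκ1 : κ ≫ pullback.fst p p = q₁ ≫ k := pullback.lift_fst _ _ _
  have hκ2 : κ ≫ pullback.snd p p = q₂ ≫ k := pullback.lift_snd _ _ _
  have hκΔ : pullback.diagonal (k ≫ p) ≫ κ = k ≫ pullback.diagonal p := by
    apply pullback.hom_ext
    · rw [Category.assoc, hκ1, pullback.diagonal_fst_assoc, Category.assoc, pullback.diagonal_fst,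
        Category.comp_id]
    · rw [Category.assoc, hκ2, pullback.diagonal_snd_assoc, Category.assoc, pullback.diagonal_snd,
        Category.comp_id]
  let Δ := pullback.diagonal p
  let D : Set (pullback p p : Scheme.{u}) := Set.range Δ
  let T : Set (pullback p p : Scheme.{u}) := (coborder D)ᶜ
  have hTdef : T = closure D \ D := compl_compl _
  have hT : IsClosed T := by
    have h1 : IsLocallyClosed D := Δ.isLocallyClosed_range
    exact (isLocallyClosed_iff_isOpen_coborder.1 h1).isClosed_compl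
  -- first claim
  have claim1 : ∀ w, κ w ∉ T := by
    intro w hw
    rw [hTdef] at hw
    obtain ⟨hw1, hw2⟩ := hw
    have h2 : κ w ∈ closure (Δ '' Set.univ) := by rw [Set.image_univ]; exact hw1
    obtain ⟨η, -, hη⟩ := exists_specializes_of_mem_closure Δ isClosed_univ h2
    obtain ⟨w', hw', hw'η⟩ := exists_specializes hκ.1 hη
    have e1 : k (q₁ w') = η := by
      rw [← Scheme.Hom.comp_apply, ← hκ1, Scheme.Hom.comp_apply, hw'η, ← Scheme.Hom.comp_apply,
        pullback.diagonal_fst]
      rfl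
    have e3 : κ (pullback.diagonal (k ≫ p) (q₁ w')) = Δ η := by
      rw [← Scheme.Hom.comp_apply, hκΔ, Scheme.Hom.comp_apply, e1]
    have e4 : pullback.diagonal (k ≫ p) (q₁ w') = w' := hκ.2 (e3.trans hw'η.symm)
    have hcl : IsClosed (Set.range (pullback.diagonal (k ≫ p))) :=
      (pullback.diagonal (k ≫ p)).isClosedEmbedding.isClosed_range
    obtain ⟨x, hx⟩ := hcl.stableUnderSpecialization hw' ⟨_, e4⟩
    apply hw2
    refine ⟨k x, ?_⟩
    rw [← hx, ← Scheme.Hom.comp_apply, ← Scheme.Hom.comp_apply, hκΔ]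
  have hrange : ∀ t : (pullback p p : Scheme.{u}), pullback.fst p p t ∈ Set.range k →
      pullback.snd p p t ∈ Set.range k → t ∈ Set.range κ := by
    intro t h1 h2
    rw [Scheme.Pullback.range_map]
    exact ⟨h1, h2⟩
  obtain ⟨C, hC, hcl, hirr, hTC⟩ := NoetherianSpace.exists_finite_set_isClosed_irreducible hT
  have hgen : ∀ c : C, ∃ t : (pullback p p : Scheme.{u}), IsGenericPoint t c.1 := fun c =>
    QuasiSober.sober (hirr c.1 c.2) (hcl c.1 c.2)
  choose t ht using hgen
  have := hC.to_subtype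
  let B : Set Y := (Set.range (fun c => pullback.fst p p (t c)) ∪
    Set.range (fun c => pullback.snd p p (t c))) \ Set.range k
  have hB : B.Finite := ((Set.finite_range _).union (Set.finite_range _)).subset Set.sdiff_subset
  let V : Y.Opens := ⟨(closure B)ᶜ, isClosed_closure.isOpen_compl⟩
  have hkV : Set.range k ⊆ (V : Set Y) := by
    rintro _ ⟨x, rfl⟩ hx
    have h2 : closure B = ⋃ y ∈ B, closure {y} := by
      conv_lhs => rw [← Set.biUnion_of_singleton B]
      exact hB.closure_biUnion _
    rw [h2] at hx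
    simp only [Set.mem_iUnion] at hx
    obtain ⟨y, hy, hxy⟩ := hx
    exact hy.2 (stableUnderGeneralization_range hk.1 (specializes_iff_mem_closure.2 hxy) ⟨x, rfl⟩)
  have claim2 : ∀ z : (pullback p p : Scheme.{u}), pullback.fst p p z ∈ V → pullback.snd p p z ∈ V →
      z ∉ T := by
    intro z h1 h2 hz
    rw [hTC] at hz
    obtain ⟨c, hc, hzc⟩ := hz
    have h3 : t ⟨c, hc⟩ ⤳ z := by
      rw [specializes_iff_mem_closure, ht ⟨c, hc⟩]
      exact hzc
    have h4 : t ⟨c, hc⟩ ∈ T := by
      rw [hTC]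
      exact ⟨c, hc, (ht ⟨c, hc⟩).mem⟩
    have h5 : ∀ (q : (pullback p p : Scheme.{u}) ⟶ Y), q z ∈ V →
        (q (t ⟨c, hc⟩) ∈ (Set.range (fun c => pullback.fst p p (t c)) ∪
          Set.range (fun c => pullback.snd p p (t c)))) → q (t ⟨c, hc⟩) ∈ Set.range k := by
      intro q hq hq'
      by_contra hcon
      have h6 : q (t ⟨c, hc⟩) ∈ V := (h3.map q.continuous).mem_open V.isOpen hq
      exact h6 (subset_closure ⟨hq', hcon⟩)
    obtain ⟨w, hw⟩ := hrange (t ⟨c, hc⟩) (h5 _ h1 (Or.inl ⟨_, rfl⟩)) (h5 _ h2 (Or.inr ⟨_, rfl⟩))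
    exact claim1 w (by rw [hw]; exact h4)
  refine ⟨V, hkV, ⟨?_⟩⟩
  let m := pullback.map (V.ι ≫ p) (V.ι ≫ p) p p V.ι V.ι (𝟙 S) (Category.comp_id _)
    (Category.comp_id _)
  let r₁ : (pullback (V.ι ≫ p) (V.ι ≫ p) : Scheme.{u}) ⟶ V := pullback.fst _ _
  let r₂ : (pullback (V.ι ≫ p) (V.ι ≫ p) : Scheme.{u}) ⟶ V := pullback.snd _ _
  have hm1 : m ≫ pullback.fst p p = r₁ ≫ V.ι := pullback.lift_fst _ _ _
  have hm2 : m ≫ pullback.snd p p = r₂ ≫ V.ι := pullback.lift_snd _ _ _
  have hm : pullback.diagonal (V.ι ≫ p) ≫ m = V.ι ≫ Δ := by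
    apply pullback.hom_ext
    · rw [Category.assoc, hm1, pullback.diagonal_fst_assoc, Category.assoc, pullback.diagonal_fst,
        Category.comp_id]
    · rw [Category.assoc, hm2, pullback.diagonal_snd_assoc, Category.assoc, pullback.diagonal_snd,
        Category.comp_id]
  have hmi : IsOpenImmersion m := inferInstance
  apply IsClosedImmersion.of_isPreimmersion
  have h7 : Set.range (pullback.diagonal (V.ι ≫ p)) = m ⁻¹' (closure D) := by
    ext z
    constructor
    · rintro ⟨v, rfl⟩
      refine subset_closure ?_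
      rw [← Scheme.Hom.comp_apply, hm]
      exact ⟨V.ι v, rfl⟩
    · intro hz
      have h8 : pullback.fst p p (m z) = V.ι (r₁ z) := by
        rw [← Scheme.Hom.comp_apply, ← Scheme.Hom.comp_apply, hm1]
      have h9 : pullback.snd p p (m z) = V.ι (r₂ z) := by
        rw [← Scheme.Hom.comp_apply, ← Scheme.Hom.comp_apply, hm2]
      have h10 : m z ∈ D := by
        by_contra hcon
        refine claim2 (m z) ?_ ?_ (by rw [hTdef]; exact ⟨hz, hcon⟩)
        · rw [h8]; exact (r₁ z).2
        · rw [h9]; exact (r₂ z).2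
      obtain ⟨y, hy⟩ := h10
      refine ⟨r₁ z, m.isOpenEmbedding.injective ?_⟩
      have h11 : pullback.fst p p (Δ y) = y := by
        rw [← Scheme.Hom.comp_apply, pullback.diagonal_fst]
        rfl
      rw [← Scheme.Hom.comp_apply, hm, Scheme.Hom.comp_apply, ← h8, ← hy, h11]
  rw [h7]
  exact isClosed_closure.preimage m.continuous

end K947.Sep
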