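import Groth.Agent.LocImm.K947.SpreadRing
import Groth.Agent.LocImm.K947.Cancel
import Groth.Prelude.Def_EssFT
import Mathlib.AlgebraicGeometry.Noetherian

/-!
# Spreading out localizing immersions
-/

set_option autoImplicit false
universe u

open CategoryTheory AlgebraicGeometry LocImm TopologicalSpace Limits

namespace K947.Spread

open K947.LocHom K947.Localizing K947.Immersion K947.Chart K947.Cancel

variable {X Y Z : Scheme.{u}}

theorem isLocalizing_SpecMap {R S : CommRingCat.{u}} (φ : R ⟶ S) (h : IsLocHom φ.hom) :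
    IsLocalizing (Spec.map φ) := by
  have : locProp (Spec.map φ) := by
    rw [HasRingHomProperty.Spec_iff (P := locProp)]
    exact RingHom.locally_of respectsIso _ h
  exact this

theorem isLocImmersion_SpecMap {R S : CommRingCat.{u}} (φ : R ⟶ S) (h : IsLocHom φ.hom) :
    IsLocImmersion (Spec.map φ) := by
  have h1 := isLocalizing_SpecMap φ h
  let := φ.hom.toAlgebra
  obtain ⟨M, hM⟩ := h
  have hM : IsLocalization M S := hM
  have h2 : IsPreimmersion (Spec.map (CommRingCat.ofHom (algebraMap R S))) :=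
    IsPreimmersion.of_isLocalization M
  have h3 : IsPreimmersion (Spec.map φ) := h2
  exact isLocImmersion_of_mono h1

/-- A localizing chart gives a localizing morphism on the chart. -/
theorem isLocImmersion_ι_comp_of_chart {f : X ⟶ Y} {U : Y.Opens} {V : X.Opens} (hU : IsAffineOpen U)
    (hV : IsAffineOpen V) (e : V ≤ f ⁻¹ᵁ U) (h : IsLocHom (f.appLE U V e).hom) :
    IsLocImmersion (V.ι ≫ f) := by
  have h1 : V.ι ≫ f = hV.isoSpec.hom ≫ Spec.map (f.appLE U V e) ≫ hU.fromSpec := by
    rw [IsAffineOpen.SpecMap_appLE_fromSpec f hU hV e, IsAffineOpen.isoSpec_hom_fromSpec_assoc]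
  rw [h1]
  exact IsLocImmersion.comp (isLocImmersion_of_isOpenImmersion _)
    (IsLocImmersion.comp (isLocImmersion_SpecMap _ h) (isLocImmersion_of_isOpenImmersion _))

/-- An essentially finite type morphism to a locally Noetherian scheme which is an isomorphism on
the stalks at `x` is a localizing immersion near `x`. -/
theorem exists_isLocImmersion_of_isIso_stalkMap (f : X ⟶ Y) [EssFT.LocallyEssFiniteType f]
    [IsLocallyNoetherian Y] (x : X) [IsIso (f.stalkMap x)] :
    ∃ V : X.Opens, x ∈ V ∧ IsLocImmersion (V.ι ≫ f) := by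
  obtain ⟨⟨U, hU⟩, ⟨V, hV⟩, hxV, e, h⟩ :=
    EssFT.LocallyEssFiniteType.exists_appLE_essFiniteType (f := f) x
  have hxV : x ∈ V := hxV
  have e : V ≤ f ⁻¹ᵁ U := e
  have hN : IsNoetherianRing Γ(Y, U) := IsLocallyNoetherian.component_noetherian ⟨U, hU⟩
  algebraize [(f.appLE U V e).hom]
  have hE : Algebra.EssFiniteType Γ(Y, U) Γ(X, V) := h
  set q := (hV.primeIdealOf ⟨x, hxV⟩).asIdeal with hq
  set p := (hU.primeIdealOf ⟨f x, e hxV⟩).asIdeal with hp
  have hpq : p = q.comap (f.appLE U V e).hom :=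
    congr($(IsAffineOpen.comap_primeIdealOf_appLE U hU V hV e hxV).1).symm
  have hbij : Function.Bijective (Localization.localRingHom p q (f.appLE U V e).hom hpq) := by
    have h1 := IsAffineOpen.arrowStalkMapIso f U hU V hV e hxV
    have h2 : IsIso (CommRingCat.ofHom (Localization.localRingHom p q (f.appLE U V e).hom hpq)) :=
      ((MorphismProperty.isomorphisms CommRingCat).arrow_mk_iso_iff h1).1
        (show IsIso (f.stalkMap x) from inferInstance)
    exact (ConcreteCategory.isIso_iff_bijective _).1 h2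
  have hpmem : ∀ s, s ∉ p ↔ algebraMap Γ(Y, U) Γ(X, V) s ∉ q := by
    intro s; rw [hpq]; rfl
  obtain ⟨w, hw, hC⟩ := K947.SpreadRing.exists_isLocHom (A := Γ(Y, U)) (B := Γ(X, V)) q (by
    intro b
    obtain ⟨z, hz⟩ := hbij.2 (algebraMap _ _ b)
    obtain ⟨a, s, rfl⟩ := IsLocalization.exists_mk'_eq p.primeCompl z
    refine ⟨a, s, (hpmem s).1 s.2, ?_⟩
    rw [Localization.localRingHom_mk', IsLocalization.mk'_eq_iff_eq_mul, ← map_mul,
      IsLocalization.eq_iff_exists q.primeCompl] at hz
    obtain ⟨u, hu⟩ := hz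
    refine ⟨u, u.2, ?_⟩
    change (u : Γ(X, V)) * (b * (f.appLE U V e).hom s - (f.appLE U V e).hom a) = 0
    rw [mul_sub, sub_eq_zero]
    exact hu.symm) (by
    rintro a ⟨u, hu, hua⟩
    have h1 : Localization.localRingHom p q (f.appLE U V e).hom hpq (algebraMap _ _ a) = 0 := by
      rw [Localization.localRingHom_to_map, IsLocalization.map_eq_zero_iff q.primeCompl]
      exact ⟨⟨u, hu⟩, hua⟩
    have h2 : algebraMap Γ(Y, U) (Localization.AtPrime p) a = 0 :=
      hbij.1 (by rw [h1, map_zero])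
    obtain ⟨s, hs⟩ := (IsLocalization.map_eq_zero_iff p.primeCompl _ _).1 h2
    exact ⟨s, (hpmem s).1 s.2, hs⟩)
  have hloc := hV.isLocalization_basicOpen w
  have hxw : x ∈ X.basicOpen w := by
    rw [Scheme.mem_basicOpen X w x hxV]
    let := X.presheaf.algebra_section_stalk ⟨x, hxV⟩
    have := hV.isLocalization_stalk ⟨x, hxV⟩
    exact (IsLocalization.AtPrime.isUnit_to_map_iff (X.presheaf.stalk x) q w).2 hw
  refine ⟨X.basicOpen w, hxw, ?_⟩
  have h3 := hC Γ(X, X.basicOpen w)
  refine isLocImmersion_ι_comp_of_chart hU (hV.basicOpen w) ((X.basicOpen_le w).trans e) ?_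
  rw [← Scheme.Hom.appLE_map f e (homOfLE (X.basicOpen_le w)).op]
  exact h3

end K947.Spread
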