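import Groth.Agent.LocImm.K947.LocHom
import Mathlib.RingTheory.RingHom.EssFiniteType
import Mathlib.RingTheory.Noetherian.Basic

/-!
# Spreading out: essentially finite type maps that are isomorphisms on a local ring
-/

set_option autoImplicit false
universe u

open LocImm

namespace K947.SpreadRing

open K947.LocHom

section

variable {A C : Type*} [CommRing A] [CommRing C]

/-- The elements of `C` that are fractions of elements of `A`. -/
def fracs (ψ : A →+* C) : Subring C where
  carrier := {c | ∃ a s : A, IsUnit (ψ s) ∧ c * ψ s = ψ a}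
  mul_mem' := by
    rintro c d ⟨a, s, hs, h⟩ ⟨b, t, ht, h'⟩
    refine ⟨a * b, s * t, ?_, ?_⟩
    · rw [map_mul]; exact hs.mul ht
    · rw [map_mul, map_mul, ← h, ← h']; ring
  one_mem' := ⟨1, 1, by simp, by simp⟩
  add_mem' := by
    rintro c d ⟨a, s, hs, h⟩ ⟨b, t, ht, h'⟩
    refine ⟨a * t + b * s, s * t, ?_, ?_⟩
    · rw [map_mul]; exact hs.mul ht
    · simp only [map_mul, map_add]; rw [← h, ← h']; ring
  zero_mem' := ⟨0, 1, by simp, by simp⟩
  neg_mem' := by
    rintro c ⟨a, s, hs, h⟩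
    exact ⟨-a, s, hs, by rw [map_neg, ← h]; ring⟩

theorem mem_fracs {ψ : A →+* C} {c : C} :
    c ∈ fracs ψ ↔ ∃ a s : A, IsUnit (ψ s) ∧ c * ψ s = ψ a := Iff.rfl

theorem map_mem_fracs (ψ : A →+* C) (a : A) : ψ a ∈ fracs ψ := ⟨a, 1, by simp, by simp⟩

theorem inv_mem_fracs {ψ : A →+* C} {c d : C} (hc : c ∈ fracs ψ) (h : c * d = 1) : d ∈ fracs ψ := by
  obtain ⟨a, s, hs, h'⟩ := hc
  refine ⟨s, a, ?_, ?_⟩
  · rw [← h']
    exact (IsUnit.of_mul_eq_one d h).mul hs
  · rw [← h']
    linear_combination (ψ s) * h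

theorem of_mul_mem_fracs {ψ : A →+* C} {c m : C} (hm : m ∈ fracs ψ) (hu : IsUnit m)
    (h : c * m ∈ fracs ψ) : c ∈ fracs ψ := by
  obtain ⟨n, hn⟩ := hu.exists_right_inv
  have h1 := (fracs ψ).mul_mem h (inv_mem_fracs hm hn)
  rwa [mul_assoc, hn, mul_one] at h1

end

/-- Spreading out an isomorphism of local rings. Let `A` be Noetherian, `B` an `A`-algebra
essentially of finite type, `q` a prime of `B` with contraction `p` such that `A_p → B_q` is
bijective (elementwise hypotheses `hs`, `hi`). Then for some `w ∉ q` the map `A → B_w` is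
localizing. -/
theorem exists_isLocHom {A B : Type*} [CommRing A] [CommRing B] [IsNoetherianRing A] [Algebra A B]
    [Algebra.EssFiniteType A B] (q : Ideal B) [q.IsPrime]
    (hs : ∀ x : B, ∃ a s : A, algebraMap A B s ∉ q ∧
      ∃ u : B, u ∉ q ∧ u * (x * algebraMap A B s - algebraMap A B a) = 0)
    (hi : ∀ a : A, (∃ u : B, u ∉ q ∧ u * algebraMap A B a = 0) →
      ∃ s : A, algebraMap A B s ∉ q ∧ s * a = 0) :
    ∃ w : B, w ∉ q ∧ ∀ (C : Type _) [CommRing C] [Algebra B C] [IsLocalization.Away w C],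
      IsLocHom ((algebraMap B C).comp (algebraMap A B)) := by
  classical
  obtain ⟨σ, hσ⟩ := (Algebra.essFiniteType_iff A B).1 inferInstance
  choose a s hsq u hu hus using hs
  -- the kernel ideal of `A → B_q`
  let J : Ideal A :=
    { carrier := {a | ∃ v : B, v ∉ q ∧ v * algebraMap A B a = 0}
      add_mem' := by
        rintro a b ⟨v, hv, h⟩ ⟨v', hv', h'⟩
        refine ⟨v * v', fun h1 => (‹q.IsPrime›.mem_or_mem h1).elim hv hv', ?_⟩
        rw [map_add]
        linear_combination v' * h + v * h'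
      zero_mem' := ⟨1, fun h => ‹q.IsPrime›.ne_top ((Ideal.eq_top_iff_one _).2 h), by simp⟩
      smul_mem' := by
        rintro c a ⟨v, hv, h⟩
        refine ⟨v, hv, ?_⟩
        rw [smul_eq_mul, map_mul]
        linear_combination algebraMap A B c * h }
  obtain ⟨s', hs', hJ⟩ : ∃ s' : A, algebraMap A B s' ∉ q ∧ ∀ a ∈ J, s' * a = 0 := by
    obtain ⟨G, hG⟩ := (inferInstance : IsNoetherianRing A).noetherian J
    have hGJ : ∀ g ∈ G, g ∈ J := fun g hg => by rw [← hG]; exact Submodule.subset_span hg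
    have h1 : ∀ g : A, ∃ s : A, algebraMap A B s ∉ q ∧ (g ∈ G → s * g = 0) := by
      intro g
      by_cases hg : g ∈ G
      · obtain ⟨s, h1, h2⟩ := hi g (hGJ g hg)
        exact ⟨s, h1, fun _ => h2⟩
      · exact ⟨1, by rw [map_one]; exact fun h => ‹q.IsPrime›.ne_top ((Ideal.eq_top_iff_one _).2 h),
          fun h => absurd h hg⟩
    choose t ht ht' using h1
    refine ⟨∏ g ∈ G, t g, ?_, ?_⟩
    · rw [map_prod]
      intro h
      obtain ⟨g, hg, h⟩ := (Ideal.IsPrime.prod_mem_iff (hp := ‹q.IsPrime›)).1 h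
      exact ht g h
    · intro a ha
      rw [← hG] at ha
      refine Submodule.span_induction ?_ ?_ ?_ ?_ ha
      · intro g hg
        obtain ⟨c, hc⟩ := Finset.dvd_prod_of_mem t hg
        rw [hc]
        linear_combination c * ht' g hg
      · simp
      · intro x y _ _ hx hy
        rw [mul_add, hx, hy, add_zero]
      · intro c x _ hx
        rw [smul_eq_mul]
        linear_combination c * hx
  refine ⟨(∏ t ∈ σ, (u t * algebraMap A B (s t))) * algebraMap A B s', ?_, ?_⟩
  · intro h
    rcases ‹q.IsPrime›.mem_or_mem h with h | h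
    · obtain ⟨t, ht, h⟩ := (Ideal.IsPrime.prod_mem_iff (hp := ‹q.IsPrime›)).1 h
      exact (‹q.IsPrime›.mem_or_mem h).elim (hu t) (hsq t)
    · exact hs' h
  · intro C _ _ _
    set w : B := (∏ t ∈ σ, (u t * algebraMap A B (s t))) * algebraMap A B s' with hw
    have hwu : IsUnit (algebraMap B C w) := IsLocalization.Away.algebraMap_isUnit w
    have hdvd : ∀ b : B, b ∣ w → IsUnit (algebraMap B C b) := fun b hb =>
      isUnit_of_dvd_unit (map_dvd (algebraMap B C) hb) hwu
    have hut : ∀ t ∈ σ, IsUnit (algebraMap B C (u t)) := fun t ht => hdvd _ <|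
      ((Dvd.intro _ rfl).trans (Finset.dvd_prod_of_mem (fun t => u t * algebraMap A B (s t)) ht)).trans
        (Dvd.intro _ rfl)
    have hst : ∀ t ∈ σ, IsUnit (algebraMap B C (algebraMap A B (s t))) := fun t ht => hdvd _ <|
      ((Dvd.intro_left _ rfl).trans
        (Finset.dvd_prod_of_mem (fun t => u t * algebraMap A B (s t)) ht)).trans (Dvd.intro _ rfl)
    have hs'u : IsUnit (algebraMap B C (algebraMap A B s')) := hdvd _ (Dvd.intro_left _ rfl)
    set ψ : A →+* C := (algebraMap B C).comp (algebraMap A B) with hψ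
    have hB₀ : ∀ b ∈ Algebra.adjoin A (σ : Set B), algebraMap B C b ∈ fracs ψ := by
      intro b hb
      induction hb using Algebra.adjoin_induction with
      | mem t ht =>
        refine ⟨a t, s t, hst t ht, ?_⟩
        have h1 := congrArg (algebraMap B C) (hus t)
        rw [map_mul, map_zero, (hut t ht).mul_right_eq_zero, map_sub, map_mul, sub_eq_zero] at h1
        exact h1
      | algebraMap r => exact map_mem_fracs ψ r
      | add x y _ _ hx hy => rw [map_add]; exact (fracs ψ).add_mem hx hy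
      | mul x y _ _ hx hy => rw [map_mul]; exact (fracs ψ).mul_mem hx hy
    have hB : ∀ b : B, algebraMap B C b ∈ fracs ψ := by
      intro b
      obtain ⟨t, ht, htu, h⟩ := hσ b
      refine of_mul_mem_fracs (hB₀ t ht) (htu.map _) ?_
      rw [← map_mul]
      exact hB₀ _ h
    have hC : ∀ c : C, c ∈ fracs ψ := by
      intro c
      obtain ⟨n, b, h⟩ := IsLocalization.Away.surj w c
      refine of_mul_mem_fracs (m := algebraMap B C w ^ n) ((fracs ψ).pow_mem (hB w) n) (hwu.pow n) ?_
      rw [h]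
      exact hB b
    rw [isLocHom_iff]
    refine ⟨fun c => mem_fracs.1 (hC c), fun a' ha' => ⟨s', hs'u, hJ a' ?_⟩⟩
    have h1 : algebraMap B C (algebraMap A B a') = 0 := ha'
    obtain ⟨⟨_, n, rfl⟩, hn⟩ := (IsLocalization.map_eq_zero_iff (Submonoid.powers w) C _).1 h1
    refine ⟨w ^ n, ?_, hn⟩
    intro h
    have hwq : w ∈ q := ‹q.IsPrime›.mem_of_pow_mem n h
    rcases ‹q.IsPrime›.mem_or_mem hwq with h | h
    · obtain ⟨t, ht, h⟩ := (Ideal.IsPrime.prod_mem_iff (hp := ‹q.IsPrime›)).1 h
      exact (‹q.IsPrime›.mem_or_mem h).elim (hu t) (hsq t)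
    · exact hs' h

end K947.SpreadRing
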