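import Groth.Agent.LocImm.K947.Nhd
import Groth.Agent.S18204
import Mathlib.AlgebraicGeometry.IdealSheaf.Subscheme
import Mathlib.AlgebraicGeometry.Morphisms.FiniteType

/-!
# Two finite type models of a localizing immersion have a common open piece
-/

set_option autoImplicit false
universe u

open CategoryTheory AlgebraicGeometry LocImm TopologicalSpace Limits

namespace K947.TwoModels

open K947.LocHom K947.Localizing K947.Immersion K947.Chart K947.Cancel K947.Spread K947.Nhd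

variable {X Y Z : Scheme.{u}}

theorem isNoetherian_opens [IsNoetherian X] (U : X.Opens) : IsNoetherian (U : Scheme.{u}) := by
  have : CompactSpace (U : Scheme.{u}) :=
    isCompact_iff_compactSpace.1 (NoetherianSpace.isCompact (U : Set X))
  constructor

theorem isNoetherian_of_finiteType [IsNoetherian Y] (f : X ⟶ Y) [LocallyOfFiniteType f]
    [QuasiCompact f] : IsNoetherian X := by
  have := LocallyOfFiniteType.isLocallyNoetherian f
  have : CompactSpace X := QuasiCompact.compactSpace_of_compactSpace f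
  constructor

theorem isNoetherian_of_isOpenImmersion [NoetherianSpace X] [IsLocallyNoetherian Y] (f : X ⟶ Y)
    [IsOpenImmersion f] : IsNoetherian X := by
  have := isLocallyNoetherian_of_isOpenImmersion f
  constructor

/-- Left cancellation for localizing morphisms. -/
theorem isLocalizing_of_comp {f : X ⟶ Y} {g : Y ⟶ Z} (hg : IsLocalizing g)
    (hfg : IsLocalizing (f ≫ g)) : IsLocalizing f := by
  intro x
  obtain ⟨⟨U, hU⟩, ⟨V, hV⟩, hxV, e, h⟩ := hg (f x)
  have hxV : f x ∈ V := hxV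
  have e : V ≤ g ⁻¹ᵁ U := e
  obtain ⟨W, hW, hxW, hWV, e', h'⟩ := IsLocalizing.exists_chart hfg hU (W := f ⁻¹ᵁ V) (x := x) hxV
    (e hxV)
  refine ⟨⟨V, hV⟩, ⟨W, hW⟩, hxW, hWV, ?_⟩
  have h2 : g.appLE U V e ≫ f.appLE V W hWV = (f ≫ g).appLE U W e' :=
    Scheme.Hom.appLE_comp_appLE _ _ _ _ _ _ _
  rw [← h2, CommRingCat.hom_comp] at h'
  exact IsLocHom.of_comp_of_isLocHom h' h

theorem isLocImmersion_of_comp {f : X ⟶ Y} {g : Y ⟶ Z} (hg : IsLocImmersion g)
    (hfg : IsLocImmersion (f ≫ g)) : IsLocImmersion f :=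
  ⟨isLocalizing_of_comp hg.1 hfg.1, fun _ _ h => hfg.2 (congrArg g h)⟩

/-- The map to the scheme-theoretic image is injective on sections over all opens. -/
theorem toImage_app_injective (f : X ⟶ Y) [QuasiCompact f] (U : f.image.Opens) :
    Function.Injective (f.toImage.app U).hom := by
  exact TopCat.Presheaf.app_injective_of_stalkFunctor_map_injective
    (F := f.image.sheaf) (G := (TopCat.Presheaf.pushforward _ f.toImage.base).obj X.presheaf)
    f.toImage.c U (fun x _ => f.stalkFunctor_toImage_injective x)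

/-- A localizing immersion followed by a separated morphism, factored through the image. -/
theorem isLocImmersion_toImage [NoetherianSpace X] (f : X ⟶ Y) (g : Y ⟶ Z) [QuasiCompact f]
    (hfg : IsLocImmersion (f ≫ g)) : IsLocImmersion f.toImage := by
  refine isLocImmersion_of_comp_of_app_injective f.toImage (f.imageι ≫ g) ?_
    (toImage_app_injective f)
  rwa [Scheme.Hom.toImage_imageι_assoc]

theorem locallyEssFiniteType_of_locallyOfFiniteType (f : X ⟶ Y) [LocallyOfFiniteType f] :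
    EssFT.LocallyEssFiniteType f := by
  constructor
  intro x
  obtain ⟨_, ⟨U, hU, rfl⟩, hxU, -⟩ := Y.isBasis_affineOpens.exists_subset_of_mem_open
    (show f x ∈ (⊤ : Y.Opens) from trivial) isOpen_univ
  obtain ⟨_, ⟨V, hV, rfl⟩, hxV, hVU⟩ := X.isBasis_affineOpens.exists_subset_of_mem_open
    (show x ∈ (f ⁻¹ᵁ U : X.Opens) from hxU) (f ⁻¹ᵁ U).isOpen
  refine ⟨⟨U, hU⟩, ⟨V, hV⟩, hxV, hVU, ?_⟩
  have h1 := HasRingHomProperty.appLE (P := @LocallyOfFiniteType) f inferInstance ⟨U, hU⟩ ⟨V, hV⟩ hVU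
  exact h1.essFiniteType

/-- Let `f : X ⟶ Y` and `f ≫ g` be localizing immersions, with `g` separated and locally of finite
type. Then `g` is an open immersion on an open neighbourhood of the image of `f`. -/
theorem exists_isOpenImmersion_nhd [IsNoetherian Y] [IsNoetherian Z] (f : X ⟶ Y)
    (g : Y ⟶ Z) (hf : IsLocImmersion f) (hfg : IsLocImmersion (f ≫ g)) [IsSeparated g]
    [LocallyOfFiniteType g] :
    ∃ U : Y.Opens, Set.range f ⊆ (U : Set Y) ∧ IsOpenImmersion (U.ι ≫ g) := by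
  have := locallyEssFiniteType_of_locallyOfFiniteType g
  obtain ⟨U, hU, h⟩ := exists_isLocImmersion_nhd f g hf hfg
  have := isNoetherian_opens U
  exact ⟨U, hU, Groth.Agent.S18204.result _ h⟩

/-- S18193. -/
theorem exists_common_open {X Y₁ Y₂ S : Scheme.{u}} [IsNoetherian X] [IsNoetherian Y₁]
    [IsNoetherian Y₂] [IsNoetherian S]
    (f₁ : X ⟶ Y₁) (f₂ : X ⟶ Y₂) (π₁ : Y₁ ⟶ S) (π₂ : Y₂ ⟶ S)
    (hf₁ : LocImm.IsLocImmersion f₁) (hf₂ : LocImm.IsLocImmersion f₂)
    [IsSeparated π₁] [IsSeparated π₂] [LocallyOfFiniteType π₁] [LocallyOfFiniteType π₂]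
    (h : f₁ ≫ π₁ = f₂ ≫ π₂) :
    ∃ (W : Scheme.{u}) (k : X ⟶ W) (g₁ : W ⟶ Y₁) (g₂ : W ⟶ Y₂), LocImm.IsLocImmersion k ∧
      IsOpenImmersion g₁ ∧ IsOpenImmersion g₂ ∧ g₁ ≫ π₁ = g₂ ≫ π₂ ∧ k ≫ g₁ = f₁ ∧ k ≫ g₂ = f₂ := by
  let φ : X ⟶ pullback π₁ π₂ := pullback.lift f₁ f₂ h
  have h1 : LocallyOfFiniteType (pullback.fst π₁ π₂) := inferInstance
  have h2 : QuasiCompact π₂ := inferInstance
  have h3 : QuasiCompact (pullback.fst π₁ π₂) := inferInstance
  have h4 : IsNoetherian (pullback π₁ π₂) := isNoetherian_of_finiteType (pullback.fst π₁ π₂)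
  have h5 : QuasiCompact φ := inferInstance
  have hN : IsNoetherian φ.image := isNoetherian_of_finiteType φ.imageι
  have e₁ : φ.toImage ≫ φ.imageι ≫ pullback.fst π₁ π₂ = f₁ := by
    rw [Scheme.Hom.toImage_imageι_assoc]; exact pullback.lift_fst _ _ _
  have e₂ : φ.toImage ≫ φ.imageι ≫ pullback.snd π₁ π₂ = f₂ := by
    rw [Scheme.Hom.toImage_imageι_assoc]; exact pullback.lift_snd _ _ _
  have hj : IsLocImmersion φ.toImage := by
    apply isLocImmersion_toImage φ (pullback.fst π₁ π₂)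
    rw [pullback.lift_fst]
    exact hf₁
  obtain ⟨U₁, hU₁, h₁⟩ := exists_isOpenImmersion_nhd φ.toImage (φ.imageι ≫ pullback.fst π₁ π₂) hj
    (by rw [e₁]; exact hf₁)
  obtain ⟨U₂, hU₂, h₂⟩ := exists_isOpenImmersion_nhd φ.toImage (φ.imageι ≫ pullback.snd π₁ π₂) hj
    (by rw [e₂]; exact hf₂)
  let U := U₁ ⊓ U₂
  have hr : Set.range φ.toImage ⊆ Set.range U.ι := by
    rw [Scheme.Opens.range_ι]
    exact fun z hz => ⟨hU₁ hz, hU₂ hz⟩
  have hk : IsOpenImmersion.lift U.ι φ.toImage hr ≫ U.ι = φ.toImage := IsOpenImmersion.lift_fac _ _ _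
  refine ⟨U, IsOpenImmersion.lift U.ι φ.toImage hr, U.ι ≫ φ.imageι ≫ pullback.fst π₁ π₂,
    U.ι ≫ φ.imageι ≫ pullback.snd π₁ π₂, ?_, ?_, ?_, ?_, ?_, ?_⟩
  · apply isLocImmersion_of_comp (isLocImmersion_of_isOpenImmersion U.ι)
    rw [hk]
    exact hj
  · rw [← Scheme.homOfLE_ι _ (show U ≤ U₁ from inf_le_left), Category.assoc]
    infer_instance
  · rw [← Scheme.homOfLE_ι _ (show U ≤ U₂ from inf_le_right), Category.assoc]
    infer_instance
  · simp only [Category.assoc, pullback.condition]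
  · rw [reassoc_of% hk, e₁]
  · rw [reassoc_of% hk, e₂]

end K947.TwoModels
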